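import Groth.Agent.H8Props.FieldDimFibre
import Groth.Prelude.Def_FlatFun

/-!
# Transcendence degrees of residue fields over the base under base change
-/

set_option autoImplicit false
set_option linter.style.haveILetI false

universe u

open AlgebraicGeometry CategoryTheory CategoryTheory.Limits TopologicalSpace Topology

namespace Groth.Agent.H8Props.FunDescent

open FieldDim

variable {X Y : Scheme.{u}} (f : X ⟶ Y)

/-- The transcendence degree of the residue field over that of the image. -/
noncomputable abbrev pointTrdeg (x : X) : Cardinal.{u} :=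
  @Algebra.trdeg (Y.residueField (f.base x)) (X.residueField x) _ _
    (f.residueFieldMap x).hom.toAlgebra

theorem exists_cdim_pointTrdeg [LocallyOfFiniteType f] {y : Y} (u : f.fiber y) {x : X}
    (hx : f.fiberι y u = x) : ∃ s : ℕ, cdim u = s ∧ pointTrdeg f x = s := by
  subst hx
  exact exists_trdeg_fiber f u

variable {f} {X' Y' : Scheme.{u}} {g : Y' ⟶ Y} {g' : X' ⟶ X} {f' : X' ⟶ Y'}

/-- The map of fibres of a base change. -/
noncomputable abbrev fiberMap (hc : IsPullback g' f' f g) (y' : Y') : f'.fiber y' ⟶ f.fiber (g y') :=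
  pullback.map _ _ _ _ g' (Spec.map (g.residueFieldMap y')) g hc.w.symm
    (Scheme.Hom.SpecMap_residueFieldMap_fromSpecResidueField g y').symm

theorem fiberι_fiberMap (hc : IsPullback g' f' f g) (y' : Y') (u : f'.fiber y') :
    f.fiberι (g y') (fiberMap hc y' u) = g' (f'.fiberι y' u) := by
  erw [← Scheme.Hom.comp_apply, pullback.lift_fst]
  rfl

/-- Transcendence degrees over the base do not grow under base change. -/
theorem pointTrdeg_le [LocallyOfFiniteType f] (hc : IsPullback g' f' f g) (x' : X') :
    pointTrdeg f' x' ≤ pointTrdeg f (g' x') := by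
  haveI : LocallyOfFiniteType f' := MorphismProperty.of_isPullback hc ‹_›
  haveI := locallyOfFiniteType_fiberToSpec f (g (f' x'))
  letI := (g.residueFieldMap (f' x')).hom.toAlgebra
  obtain ⟨s, hs, hs'⟩ := exists_cdim_pointTrdeg f' (f'.asFiber x') (f'.fiberι_asFiber x')
  obtain ⟨t, ht, ht'⟩ := exists_cdim_pointTrdeg f (fiberMap hc (f' x') (f'.asFiber x'))
    ((fiberι_fiberMap hc _ _).trans (congrArg g' (f'.fiberι_asFiber x')))
  have hle : cdim (f'.asFiber x') ≤ cdim (fiberMap hc (f' x') (f'.asFiber x')) :=
    (baseChange_point (k := Y.residueField (g (f' x'))) (f.fiberToSpecResidueField (g (f' x')))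
      (K := Y'.residueField (f' x')) _ _ (isPullback_fiberToSpecResidueField_of_isPullback hc (f' x'))
      (f'.asFiber x')).1
  rw [hs, ht] at hle
  rw [hs', ht']
  exact_mod_cast hle

/-- Every point has a point over it with the same transcendence degree, over any point of the new
base. -/
theorem exists_point_pointTrdeg_eq [LocallyOfFiniteType f] (hc : IsPullback g' f' f g) (x : X)
    (y' : Y') (hy : g y' = f x) :
    ∃ x' : X', g' x' = x ∧ f' x' = y' ∧ pointTrdeg f' x' = pointTrdeg f x := by
  haveI : LocallyOfFiniteType f' := MorphismProperty.of_isPullback hc ‹_›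
  haveI := locallyOfFiniteType_fiberToSpec f (g y')
  letI := (g.residueFieldMap y').hom.toAlgebra
  have sq := isPullback_fiberToSpecResidueField_of_isPullback hc y'
  haveI : Surjective (fiberMap hc y') := by
    haveI : Surjective (Spec.map (g.residueFieldMap y')) :=
      ⟨Function.surjective_to_subsingleton (α := PrimeSpectrum (Y'.residueField y'))
        (β := PrimeSpectrum (Y.residueField (g y'))) _⟩
    exact MorphismProperty.of_isPullback (P := @Surjective) sq.flip ‹_›
  obtain ⟨u, hu⟩ : x ∈ Set.range (f.fiberι (g y')) := by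
    rw [f.range_fiberι]; exact hy.symm
  obtain ⟨z', hz'⟩ := (fiberMap hc y').surjective u
  obtain ⟨η', -, hη', hd⟩ := (baseChange_point (k := Y.residueField (g y'))
    (f.fiberToSpecResidueField (g y')) (K := Y'.residueField y') _ _ sq z').2 u
      (specializes_of_eq hz'.symm)
  replace hη' : fiberMap hc y' η' = u := hη'
  have hx : g' (f'.fiberι y' η') = x := by rw [← fiberι_fiberMap hc y' η', hη', hu]
  obtain ⟨s, hs, hs'⟩ := exists_cdim_pointTrdeg f' η' rfl
  obtain ⟨t, ht, ht'⟩ := exists_cdim_pointTrdeg f u hu
  replace hd : (s : WithBot ℕ∞) = t := hs.symm.trans (hd.trans ht)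
  refine ⟨_, hx, (f'.range_fiberι y').subset (Set.mem_range_self η'), ?_⟩
  rw [hs', ht']
  exact_mod_cast hd

end Groth.Agent.H8Props.FunDescent
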