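import Groth.Agent.H8Props.FunDescent.Functor
import Groth.Agent.H8Props.FunDescent.TrdegPoints

/-!
# Flatness in dimensions `≥ n` of base changes
-/

set_option autoImplicit false
set_option linter.style.haveILetI false

universe u

open CategoryTheory CategoryTheory.Limits AlgebraicGeometry Opposite TopologicalSpace

namespace Groth.Agent.H8Props.FunDescent

open H06Mod

variable {X S : Scheme.{u}} (f : X ⟶ S) (E : X.Modules) (n : ℕ)

/-- The condition defining `F_n`. -/
abbrev DimCond (T : Over S) : Prop :=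
  FlatFun.DimFibresLT n (PicF.XTproj f T)
    {x | ¬ FlatMod.IsFlatOverAt (PicF.XTproj f T) (FGA.ET f E T) x}

theorem isFlatOverAt_XTmap {T' T : Over S} (g : T' ⟶ T) (x' : PicF.XT f T')
    (h : FlatMod.IsFlatOverAt (PicF.XTproj f T) (FGA.ET f E T) (PicF.XTmap f g x')) :
    FlatMod.IsFlatOverAt (PicF.XTproj f T') (FGA.ET f E T') x' :=
  (H06EGA9.isFlatOverAt_congr_iso _ (FGA.ETiso f E g) x').1
    (H06EGA9.isFlatOverAt_of_isPullback (isPullback_XTmap f g) _ x' h)

theorem isFlatOverAt_of_XTmap {T' T : Over S} (g : T' ⟶ T) [Flat g.left] (x' : PicF.XT f T')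
    (h : FlatMod.IsFlatOverAt (PicF.XTproj f T') (FGA.ET f E T') x') :
    FlatMod.IsFlatOverAt (PicF.XTproj f T) (FGA.ET f E T) (PicF.XTmap f g x') := by
  haveI := flat_XTmap f g
  refine (isFlatOverAt_pullback_iff (PicF.XTmap f g) (PicF.XTproj f T) _ x').1 ?_
  rw [H06EGA9.isFlatOverAt_congr_iso _ (FGA.ETiso f E g) x',
    isFlatOverAt_congr (isPullback_XTmap f g).w _ x']
  exact isFlatOverAt_comp_of_flat (PicF.XTproj f T') g.left _ x' h

variable [LocallyOfFiniteType f]

theorem locallyOfFiniteType_XTproj (T : Over S) : LocallyOfFiniteType (PicF.XTproj f T) :=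
  inferInstanceAs (LocallyOfFiniteType (pullback.snd f T.hom))

theorem stable_dimCond ⦃T' T : Over S⦄ (g : T' ⟶ T) (h : DimCond f E n T) : DimCond f E n T' := by
  intro x' hx'
  haveI := locallyOfFiniteType_XTproj f T
  exact lt_of_le_of_lt (pointTrdeg_le (isPullback_XTmap f g) x')
    (h _ fun H => hx' (isFlatOverAt_XTmap f E g x' H))

theorem dimCond_of_cover (T : Over S) {ι : Type (u + 1)} (Ti : ι → Over S) (g : ∀ i, Ti i ⟶ T)
    (hfl : ∀ i, Flat (g i).left) (hsur : ∀ x : T.left, ∃ i, x ∈ Set.range (g i).left)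
    (h : ∀ i, DimCond f E n (Ti i)) : DimCond f E n T := by
  intro x hx
  obtain ⟨i, t, ht⟩ := hsur (PicF.XTproj f T x)
  haveI := locallyOfFiniteType_XTproj f T
  haveI := hfl i
  obtain ⟨x', rfl, -, he⟩ := exists_point_pointTrdeg_eq (isPullback_XTmap f (g i)) x t ht
  exact lt_of_eq_of_lt he.symm (h i x' fun H => hx (isFlatOverAt_of_XTmap f E (g i) x' H))

end Groth.Agent.H8Props.FunDescent
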