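import Groth.Agent.H8Props.FunDescent.FlatStage
import Groth.Agent.H8Props.FunDescent.DimFun
import Groth.Agent.H8Props.FibreDimSemicont
import Groth.Agent.H8Props.FlatLocus.Sheaf
import Mathlib.AlgebraicGeometry.IdealSheaf.Subscheme

/-!
# `F_n` is limit preserving
-/

set_option autoImplicit false
set_option linter.style.haveILetI false

universe u

open CategoryTheory CategoryTheory.Limits AlgebraicGeometry Opposite TopologicalSpace Topology

namespace Groth.Agent.H8Props.FunDescent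

open FieldDim

section Closed

variable {X T : Scheme.{u}} (q : X ⟶ T)

theorem pointTrdeg_comp_preimmersion {Z : Scheme.{u}} (ι : Z ⟶ X) [IsPreimmersion ι] (z : Z) :
    pointTrdeg (ι ≫ q) z = pointTrdeg q (ι z) := by
  letI : Algebra (T.residueField (q (ι z))) (Z.residueField z) :=
    ((ι ≫ q).residueFieldMap z).hom.toAlgebra
  letI := (q.residueFieldMap (ι z)).hom.toAlgebra
  have hb : Function.Bijective (ι.residueFieldMap z) := by
    refine ⟨(ι.residueFieldMap z).hom.injective, fun a => ?_⟩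
    obtain ⟨a', rfl⟩ := Scheme.residue_surjective Z z a
    obtain ⟨b, rfl⟩ := ι.stalkMap_surjective z a'
    exact ⟨X.residue (ι z) b, by
      rw [← CommRingCat.comp_apply, Scheme.residue_residueFieldMap, CommRingCat.comp_apply]⟩
  let e : X.residueField (ι z) ≃ₐ[T.residueField (q (ι z))] Z.residueField z :=
    AlgEquiv.ofRingEquiv (f := RingEquiv.ofBijective (ι.residueFieldMap z).hom hb) fun r => by
      show ι.residueFieldMap z (q.residueFieldMap (ι z) r) = (ι ≫ q).residueFieldMap z r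
      rw [Scheme.residueFieldMap_comp]
      rfl
  exact e.trdeg_eq.symm

theorem cdim_le_fibreDimAt [LocallyOfFiniteType q] (x : X) :
    cdim (q.asFiber x) ≤ FlatMor.fibreDimAt q x := by
  haveI := locallyOfFiniteType_fiberToSpec q (q x)
  show _ ≤ FlatMor.localDim _ _
  rw [@localDim_eq (T.residueField (q x)) _ _ (q.fiberToSpecResidueField (q x)) this]
  exact le_iSup (fun η : {η : q.fiber (q x) // η ⤳ q.asFiber x} => cdim η.1) ⟨_, specializes_rfl⟩

theorem exists_pointTrdeg_of_mem_closure [LocallyOfFiniteType q] {C : Set X} (hC : IsClosed C) (n : ℕ)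
    {x : X} (hx : x ∈ closure {y | y ∈ C ∧ (n : Cardinal.{u}) ≤ pointTrdeg q y}) :
    ∃ y ∈ C, q y = q x ∧ (n : Cardinal.{u}) ≤ pointTrdeg q y := by
  have hxC : x ∈ C := closure_minimal (fun y hy => hy.1) hC hx
  obtain _ | m := n
  · exact ⟨x, hxC, rfl, by simp⟩
  let Z := (Scheme.IdealSheafData.vanishingIdeal ⟨C, hC⟩).subscheme
  let ι := (Scheme.IdealSheafData.vanishingIdeal ⟨C, hC⟩).subschemeι
  have hrange : Set.range ι = C := by
    simp [ι]
  obtain ⟨z, rfl⟩ : x ∈ Set.range ι := hrange.symm.subset hxC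
  by_cases hz : FlatMor.fibreDimAt (ι ≫ q) z ≤ (m : WithBot ℕ∞)
  · exfalso
    obtain ⟨U, hU, hUO⟩ := ι.isEmbedding.isInducing.isOpen_iff.1 (isOpen_fibreDimAt_le (ι ≫ q) m)
    obtain ⟨y, hyU, hyC, hy⟩ := mem_closure_iff.1 hx U hU (by
      show z ∈ ι ⁻¹' U
      rw [hUO]; exact hz)
    obtain ⟨z', rfl⟩ : y ∈ Set.range ι := hrange.symm.subset hyC
    have hz' : FlatMor.fibreDimAt (ι ≫ q) z' ≤ (m : WithBot ℕ∞) := by
      have : z' ∈ ι ⁻¹' U := hyU
      rwa [hUO] at this
    obtain ⟨s, hs, hs'⟩ := exists_cdim_pointTrdeg (ι ≫ q) ((ι ≫ q).asFiber z')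
      ((ι ≫ q).fiberι_asFiber z')
    have h1 := (cdim_le_fibreDimAt (ι ≫ q) z').trans hz'
    rw [hs] at h1
    rw [← pointTrdeg_comp_preimmersion q ι z', hs'] at hy
    have h1' : s ≤ m := by exact_mod_cast h1
    have h2 : m + 1 ≤ s := by exact_mod_cast hy
    omega
  · haveI := locallyOfFiniteType_fiberToSpec (ι ≫ q) ((ι ≫ q) z)
    have hlt : (m : WithBot ℕ∞) < FlatMor.localDim _ ((ι ≫ q).asFiber z) := not_le.1 hz
    rw [@localDim_eq (T.residueField ((ι ≫ q) z)) _ _ ((ι ≫ q).fiberToSpecResidueField ((ι ≫ q) z)) this] at hlt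
    obtain ⟨⟨η, hηz⟩, hlt'⟩ := lt_iSup_iff.1 hlt
    obtain ⟨s, hs, hs'⟩ := exists_cdim_pointTrdeg (ι ≫ q) η rfl
    refine ⟨ι ((ι ≫ q).fiberι _ η), hrange.subset (Set.mem_range_self _),
      ((ι ≫ q).range_fiberι _).subset (Set.mem_range_self η), ?_⟩
    rw [← pointTrdeg_comp_preimmersion, hs']
    have hgt : (m : WithBot ℕ∞) < cdim η := hlt'
    rw [hs] at hgt
    have h2 : m < s := by exact_mod_cast hgt
    exact_mod_cast h2

theorem mem_basicOpen_appLE {P Q : Scheme.{u}} (a : P ⟶ Q) {V : Q.Opens} {U : P.Opens}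
    (e : U ≤ a ⁻¹ᵁ V) (s : Γ(Q, V)) (y : P) :
    y ∈ P.basicOpen (a.appLE V U e s) ↔ y ∈ U ∧ a y ∈ Q.basicOpen s := by
  rw [Scheme.Hom.appLE, CommRingCat.comp_apply, Scheme.basicOpen_res, ← Scheme.preimage_basicOpen]
  rfl

end Closed

variable {X S : Scheme.{u}} (f : X ⟶ S) [QuasiCompact f] [LocallyOfFinitePresentation f]
  (F : X.Modules) (hF : Coh.IsQCoh F) (hFP : CohB1.IsFP F) {I : Type u} [SmallCategory I]
  [IsCofiltered I] (D : I ⥤ Over S) (c : Cone D) (hc : IsLimit ((Over.forget S).mapCone c))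
  (hD : ∀ i, IsAffine (D.obj i).left)

/-- The non-flat locus at a stage. -/
def nonFlat (j : I) : Set (PicF.XT f (D.obj j)) :=
  {x | ¬ FlatMod.IsFlatOverAt (PicF.XTproj f (D.obj j)) (FGA.ET f F (D.obj j)) x}

omit [QuasiCompact f] [IsCofiltered I] in
include hFP in
theorem isClosed_nonFlat (j : I) : IsClosed (nonFlat f F D j) := by
  haveI : LocallyOfFinitePresentation (PicF.XTproj f (D.obj j)) :=
    inferInstanceAs (LocallyOfFinitePresentation (pullback.snd f (D.obj j).hom))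
  exact isOpen_compl_iff.1 (by
    simpa [nonFlat, Set.compl_ofPred] using
      FlatLocus.isOpen_setOf_isFlatOverAt (PicF.XTproj f (D.obj j)) (FGA.ET f F (D.obj j))
        (H06EGA9.isFP_pullback _ hFP))

include hc hD hF hFP in
/-- A point where the limit is flat has a flat image at some stage. -/
theorem exists_stage_isFlatOverAt (x : PicF.XT f c.pt)
    (hx : FlatMod.IsFlatOverAt (PicF.XTproj f c.pt) (FGA.ET f F c.pt) x) :
    ∃ j, FlatMod.IsFlatOverAt (PicF.XTproj f (D.obj j)) (FGA.ET f F (D.obj j))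
      (PicF.XTmap f (c.π.app j) x) := by
  obtain ⟨i⟩ := IsCofiltered.nonempty (C := I)
  haveI := isAffineHom_xtDiag f D hD
  haveI : LocallyOfFinitePresentation (PicF.XTproj f c.pt) :=
    inferInstanceAs (LocallyOfFinitePresentation (pullback.snd f c.pt.hom))
  let O : Opens (PicF.XT f c.pt) := ⟨_, FlatLocus.isOpen_setOf_isFlatOverAt (PicF.XTproj f c.pt)
    (FGA.ET f F c.pt) (H06EGA9.isFP_pullback _ hFP)⟩
  obtain ⟨_, ⟨W, hW, rfl⟩, hxW, -⟩ := ((xtDiag f D).obj i).isBasis_affineOpens.exists_subset_of_mem_open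
    (Set.mem_univ (PicF.XTmap f (c.π.app i) x)) isOpen_univ
  haveI : IsAffineHom ((xtCone f D c).π.app i) := isAffineHom_π_app _ _ (isLimitXtCone f D c hc) i
  have hWT : IsAffineOpen ((xtCone f D c).π.app i ⁻¹ᵁ W) := hW.preimage _
  obtain ⟨s, hsO, hxs⟩ := hWT.exists_basicOpen_le (V := O) ⟨x, hx⟩ hxW
  obtain ⟨j, φ, t, ht⟩ := H7Lim.exists_secπ_eq (isLimitXtCone f D c hc) hW s
  have hWj : IsAffineOpen ((xtDiag f D).map φ ⁻¹ᵁ W) := hW.preimage _
  have key : ∀ y : PicF.XT f c.pt, (xtCone f D c).π.app i y ∈ W →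
      (y ∈ (PicF.XT f c.pt).basicOpen s ↔
        PicF.XTmap f (c.π.app j) y ∈ ((xtDiag f D).obj j).basicOpen t) := by
    intro y hy
    rw [← ht]
    exact (mem_basicOpen_appLE ((xtCone f D c).π.app j) _ t y).trans
      ⟨fun h => h.2, fun h => ⟨hy, h⟩⟩
  obtain ⟨k, hk⟩ := exists_stage_flat_affine f F hF hFP D c hc hD (hWj.basicOpen t) fun y hy => by
    have hyW : (xtCone f D c).π.app i y ∈ W := by
      have h1 : (xtDiag f D).map φ ((xtCone f D c).π.app j y) ∈ W :=
        ((xtDiag f D).obj j).basicOpen_le t hy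
      rw [← Scheme.Hom.comp_apply, (xtCone f D c).w φ] at h1
      exact h1
    exact hsO ((key y hyW).2 hy)
  refine ⟨k.left, hk _ ?_⟩
  show ((xtCone f D c).π.app k.left ≫ (xtDiag f D).map k.hom) x ∈ _
  rw [(xtCone f D c).w k.hom]
  exact (key x hxW).1 hxs

include hc hD hF hFP in
/-- `F_n` is limit preserving. -/
theorem exists_stage_dimCond (n : ℕ) (h : DimCond f F n c.pt) : ∃ j, DimCond f F n (D.obj j) := by
  by_contra! hno
  let B : ∀ j, Set (PicF.XT f (D.obj j)) := fun j =>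
    {y | y ∈ nonFlat f F D j ∧ (n : Cardinal.{u}) ≤ pointTrdeg (PicF.XTproj f (D.obj j)) y}
  have hB : ∀ j, (B j).Nonempty := fun j => by
    by_contra he
    refine hno j fun y hy => ?_
    by_contra hlt
    exact he ⟨y, hy, not_lt.1 hlt⟩
  have hmap : ∀ {i j : I} (a : i ⟶ j), Set.MapsTo ((xtDiag f D).map a) (B i) (B j) := by
    intro i j a y hy
    haveI := locallyOfFiniteType_XTproj f (D.obj j)
    exact ⟨fun H => hy.1 (isFlatOverAt_XTmap f F (D.map a) y H),
      hy.2.trans (pointTrdeg_le (isPullback_XTmap f (D.map a)) y)⟩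
  haveI := isAffineHom_xtDiag f D hD
  haveI := compactSpace_xtDiag f D hD
  obtain ⟨x, hx⟩ := exists_mem_of_isClosed_of_nonempty (xtDiag f D) (xtCone f D c)
    (isLimitXtCone f D c hc) (fun j => closure (B j)) (fun j => isClosed_closure)
    (fun j => (hB j).closure) (fun j => isClosed_closure.isCompact)
    (fun a => (hmap a).closure ((xtDiag f D).map a).continuous)
  let p := PicF.XTproj f c.pt
  haveI : LocallyOfFiniteType p := locallyOfFiniteType_XTproj f c.pt
  let t := p x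
  haveI := locallyOfFiniteType_fiberToSpec p t
  haveI : QuasiCompact p := inferInstanceAs (QuasiCompact (pullback.snd f c.pt.hom))
  haveI : CompactSpace (p.fiber t) := inferInstance
  haveI : NoetherianSpace (p.fiber t) := by
    haveI : IsLocallyNoetherian (p.fiber t) :=
      LocallyOfFiniteType.isLocallyNoetherian (p.fiberToSpecResidueField t)
    haveI : IsNoetherian (p.fiber t) := {}
    exact inferInstance
  let Dset : I → Closeds (p.fiber t) := fun j =>
    ⟨(fun u => PicF.XTmap f (c.π.app j) (p.fiberι t u)) ⁻¹' nonFlat f F D j,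
      (isClosed_nonFlat f F hFP D j).preimage
        ((PicF.XTmap f (c.π.app j)).continuous.comp (p.fiberι t).continuous)⟩
  obtain ⟨i₀⟩ := IsCofiltered.nonempty (C := I)
  obtain ⟨_, ⟨j, rfl⟩, hmin⟩ :=
    WellFounded.has_min (wellFounded_lt (α := Closeds (p.fiber t))) (Set.range Dset)
      ⟨_, i₀, rfl⟩
  have hanti : ∀ {i j : I}, (i ⟶ j) → Dset i ≤ Dset j := by
    intro i j a u hu H
    refine hu ?_
    refine isFlatOverAt_XTmap f F (D.map a) _ ?_
    rw [← c.w a, XTmap_comp] at H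
    exact H
  have hle : ∀ i, Dset j ≤ Dset i := fun i => by
    have h1 : ¬ Dset (IsCofiltered.min j i) < Dset j := hmin _ ⟨_, rfl⟩
    have h2 := hanti (IsCofiltered.minToLeft j i)
    exact (eq_of_le_of_not_lt h2 h1).ge.trans (hanti (IsCofiltered.minToRight j i))
  obtain ⟨y, hyC, hy, hyn⟩ := exists_pointTrdeg_of_mem_closure (PicF.XTproj f (D.obj j))
    (isClosed_nonFlat f F hFP D j) n (hx j)
  haveI := locallyOfFiniteType_XTproj f (D.obj j)
  obtain ⟨w, hw, hwt, hwd⟩ := exists_point_pointTrdeg_eq (isPullback_XTmap f (c.π.app j)) y t (by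
    rw [hy]
    exact (congrArg (fun g => g x) (isPullback_XTmap f (c.π.app j)).w).symm)
  obtain ⟨u, rfl⟩ : w ∈ Set.range (p.fiberι t) := by rw [p.range_fiberι]; exact hwt
  have huj : u ∈ Dset j := by
    show PicF.XTmap f (c.π.app j) (p.fiberι t u) ∈ nonFlat f F D j
    rw [hw]; exact hyC
  refine not_le.2 (h (p.fiberι t u) fun H => ?_) (hyn.trans hwd.ge)
  obtain ⟨i, hi⟩ := exists_stage_isFlatOverAt f F hF hFP D c hc hD _ H
  exact hle i huj hi

end Groth.Agent.H8Props.FunDescent
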