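import Groth.Agent.H8Props.FunDescent.Stalk
import Groth.Prelude.Def_FlatFun
import Groth.Prelude.Def_FGA
import Groth.Prelude.Def_QuotSh
import Mathlib.AlgebraicGeometry.Sites.Fpqc

/-!
# fpqc-local conditions on base changes of modules
-/

set_option autoImplicit false
set_option linter.style.haveILetI false

universe u

open CategoryTheory CategoryTheory.Limits AlgebraicGeometry Opposite TopologicalSpace

namespace Groth.Agent.H8Props.FunDescent

open H06Mod

/-- A stable condition which holds on a scheme as soon as it holds on the members of an fpqc family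
gives an fpqc sheaf. -/
theorem isSheaf_genPSp {S : Scheme.{u}} (P : Over S → Prop)
    (hst : ∀ ⦃T T₀ : Over S⦄ (_ : T ⟶ T₀), P T₀ → P T)
    (hloc : ∀ (T : Over S) {ι : Type (u + 1)} (Ti : ι → Over S) (g : ∀ i, Ti i ⟶ T),
      (∀ i, Flat (g i).left) → (∀ x : T.left, ∃ i, x ∈ Set.range (g i).left) →
      (∀ i, P (Ti i)) → P T) :
    Presheaf.IsSheaf (QuotSh.J Scheme.fpqcPrecoverage S) (FlatFun.genPSp S P) := by
  rw [isSheaf_iff_isSheaf_of_type]
  intro T R hR x hx
  have hP : P T := by
    have hR' : Sieve.overEquiv T R ∈ Scheme.fpqcPrecoverage.toGrothendieck T.left :=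
      (GrothendieckTopology.mem_over_iff _ _).1 hR
    obtain ⟨Q, hQ, hle⟩ :=
      Precoverage.mem_toGrothendieck_iff_of_isStableUnderComposition.1 hR'
    obtain ⟨E, rfl⟩ := Precoverage.mem_iff_exists_zeroHypercover.1 hQ
    have hsat := (Scheme.ofArrows_mem_precoverage_iff (P := @Flat)).mp E.mem₀.2
    refine hloc T (fun i => Over.mk (E.f i ≫ T.hom)) (fun i => Over.homMk (E.f i))
      hsat.2 hsat.1 fun i => ?_
    have h1 : R.arrows (Over.homMk (E.f i) : Over.mk (E.f i ≫ T.hom) ⟶ T) :=
      (Sieve.overEquiv_iff R (E.f i)).1 (hle _ _ (Presieve.ofArrows.mk i))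
    exact (FlatFun.genPSp_nonempty_iff_of_stable P hst _).1 ⟨x _ h1⟩
  obtain ⟨t⟩ := FlatFun.genPSp_nonempty_of P hP
  exact ⟨t, fun Y g hg => @Subsingleton.elim _ (FlatFun.genPSp_subsingleton S P _) _ _,
    fun t' _ => @Subsingleton.elim _ (FlatFun.genPSp_subsingleton S P _) _ _⟩

variable {X S : Scheme.{u}} (f : X ⟶ S)

theorem isPullback_XTmap {T T' : Over S} (g : T' ⟶ T) :
    IsPullback (PicF.XTmap f g) (PicF.XTproj f T') (PicF.XTproj f T) g.left := by
  refine IsPullback.of_right ?_ ?_ (IsPullback.of_hasPullback f T.hom).flip.flip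
  · have h : PicF.XTmap f g ≫ pullback.fst f T.hom = pullback.fst f T'.hom := FGA.XTmap_fst f g
    have h' : g.left ≫ T.hom = T'.hom := Over.w g
    rw [h, h']
    exact IsPullback.of_hasPullback f T'.hom
  · exact pullback.lift_snd _ _ _

theorem flat_XTmap {T T' : Over S} (g : T' ⟶ T) [Flat g.left] : Flat (PicF.XTmap f g) :=
  MorphismProperty.of_isPullback (P := @Flat) (isPullback_XTmap f g).flip ‹_›

theorem exists_XTmap_eq {T T' : Over S} (g : T' ⟶ T) (x : ↑(PicF.XT f T)) (t : T'.left)
    (ht : g.left t = PicF.XTproj f T x) : ∃ x', PicF.XTmap f g x' = x := by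
  obtain ⟨p, hp1, -⟩ := Scheme.Pullback.exists_preimage_pullback (f := PicF.XTproj f T) (g := g.left)
    x t ht.symm
  refine ⟨(isPullback_XTmap f g).isoPullback.inv p, ?_⟩
  rw [← Scheme.Hom.comp_apply, IsPullback.isoPullback_inv_fst]
  exact hp1

/-- The base change of `u` along `T' → T`. -/
theorem pullback_map_XTmap {F G : X.Modules} (u : F ⟶ G) {T T' : Over S} (g : T' ⟶ T) :
    (Scheme.Modules.pullback (PicF.XTmap f g)).map ((Scheme.Modules.pullback (pullback.fst f T.hom)).map u) ≫
        (FGA.ETiso f G g).hom =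
      (FGA.ETiso f F g).hom ≫ (Scheme.Modules.pullback (pullback.fst f T'.hom)).map u :=
  ((Scheme.Modules.pullbackComp (PicF.XTmap f g) (pullback.fst f T.hom)) ≪≫
    Scheme.Modules.pullbackCongr (FGA.XTmap_fst f g)).hom.naturality u

theorem stable_zero {F G : X.Modules} (u : F ⟶ G) ⦃T' T : Over S⦄ (g : T' ⟶ T)
    (h : (Scheme.Modules.pullback (pullback.fst f T.hom)).map u = 0) :
    (Scheme.Modules.pullback (pullback.fst f T'.hom)).map u = 0 := by
  have h2 := pullback_map_XTmap f u g
  rw [h, Functor.map_zero, zero_comp] at h2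
  exact (cancel_epi (FGA.ETiso f F g).hom).1 (h2.symm.trans comp_zero.symm)

theorem stable_epi {F G : X.Modules} (u : F ⟶ G) ⦃T' T : Over S⦄ (g : T' ⟶ T)
    (h : Epi ((Scheme.Modules.pullback (pullback.fst f T.hom)).map u)) :
    Epi ((Scheme.Modules.pullback (pullback.fst f T'.hom)).map u) := by
  haveI := (Scheme.Modules.pullbackPushforwardAdjunction (PicF.XTmap f g)).leftAdjoint_preservesColimits
  haveI : (Scheme.Modules.pullback (PicF.XTmap f g)).PreservesEpimorphisms :=
    Functor.preservesEpimorphisms_of_adjunction (Scheme.Modules.pullbackPushforwardAdjunction (PicF.XTmap f g))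
  haveI := (Scheme.Modules.pullback (PicF.XTmap f g)).map_epi
    ((Scheme.Modules.pullback (pullback.fst f T.hom)).map u)
  have h2 := pullback_map_XTmap f u g
  haveI : Epi ((FGA.ETiso f F g).hom ≫ (Scheme.Modules.pullback (pullback.fst f T'.hom)).map u) :=
    h2 ▸ epi_comp _ _
  exact epi_of_epi (FGA.ETiso f F g).hom _

theorem stable_iso {F G : X.Modules} (u : F ⟶ G) ⦃T' T : Over S⦄ (g : T' ⟶ T)
    (h : IsIso ((Scheme.Modules.pullback (pullback.fst f T.hom)).map u)) :
    IsIso ((Scheme.Modules.pullback (pullback.fst f T'.hom)).map u) := by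
  have h2 := pullback_map_XTmap f u g
  haveI : IsIso ((FGA.ETiso f F g).hom ≫ (Scheme.Modules.pullback (pullback.fst f T'.hom)).map u) :=
    h2 ▸ inferInstance
  exact IsIso.of_isIso_comp_left (FGA.ETiso f F g).hom _

section Local

variable {F G : X.Modules} (u : F ⟶ G) {T : Over S} {ι : Type*} {Ti : ι → Over S}
  (g : ∀ i, Ti i ⟶ T) (hfl : ∀ i, Flat (g i).left)
  (hsur : ∀ x : T.left, ∃ i, x ∈ Set.range (g i).left)

include hsur in
theorem exists_point (x : ↑(PicF.XT f T)) : ∃ i x', PicF.XTmap f (g i) x' = x := by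
  obtain ⟨i, t, ht⟩ := hsur (PicF.XTproj f T x)
  exact ⟨i, exists_XTmap_eq f (g i) x t ht⟩

include hfl hsur

theorem zero_of_cover
    (h : ∀ i, (Scheme.Modules.pullback (pullback.fst f (Ti i).hom)).map u = 0) :
    (Scheme.Modules.pullback (pullback.fst f T.hom)).map u = 0 := by
  refine (eq_zero_iff _).2 fun x => ?_
  obtain ⟨i, x', rfl⟩ := exists_point f g hsur x
  haveI := hfl i
  haveI := flat_XTmap f (g i)
  refine stalkLin_eq_zero_of_pullback (PicF.XTmap f (g i)) _ x' ?_
  have h2 := pullback_map_XTmap f u (g i)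
  rw [h i, comp_zero] at h2
  exact (eq_zero_iff _).1 ((cancel_mono (FGA.ETiso f G (g i)).hom).1 (h2.trans zero_comp.symm)) x'

theorem mono_of_cover
    (h : ∀ i, Mono ((Scheme.Modules.pullback (pullback.fst f (Ti i).hom)).map u)) :
    Mono ((Scheme.Modules.pullback (pullback.fst f T.hom)).map u) := by
  refine (mono_iff _).2 fun x => ?_
  obtain ⟨i, x', rfl⟩ := exists_point f g hsur x
  haveI := hfl i
  haveI := flat_XTmap f (g i)
  refine (injective_stalkLin_pullback_iff (PicF.XTmap f (g i)) _ x').1 ((mono_iff _).1 ?_ x')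
  have h2 := pullback_map_XTmap f u (g i)
  haveI := h i
  haveI : Mono ((Scheme.Modules.pullback (PicF.XTmap f (g i))).map
      ((Scheme.Modules.pullback (pullback.fst f T.hom)).map u) ≫ (FGA.ETiso f G (g i)).hom) := by
    rw [h2]; infer_instance
  exact mono_of_mono _ (FGA.ETiso f G (g i)).hom

theorem epi_of_cover
    (h : ∀ i, Epi ((Scheme.Modules.pullback (pullback.fst f (Ti i).hom)).map u)) :
    Epi ((Scheme.Modules.pullback (pullback.fst f T.hom)).map u) := by
  refine (epi_iff _).2 fun x => ?_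
  obtain ⟨i, x', rfl⟩ := exists_point f g hsur x
  haveI := hfl i
  haveI := flat_XTmap f (g i)
  refine (surjective_stalkLin_pullback_iff (PicF.XTmap f (g i)) _ x').1 ((epi_iff _).1 ?_ x')
  have h2 := pullback_map_XTmap f u (g i)
  haveI := h i
  have h3 : (Scheme.Modules.pullback (PicF.XTmap f (g i))).map
      ((Scheme.Modules.pullback (pullback.fst f T.hom)).map u) =
      ((FGA.ETiso f F (g i)).hom ≫ (Scheme.Modules.pullback (pullback.fst f (Ti i).hom)).map u) ≫
        (FGA.ETiso f G (g i)).inv := by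
    rw [← h2, Category.assoc, Iso.hom_inv_id, Category.comp_id]
  rw [h3]
  infer_instance

theorem iso_of_cover
    (h : ∀ i, IsIso ((Scheme.Modules.pullback (pullback.fst f (Ti i).hom)).map u)) :
    IsIso ((Scheme.Modules.pullback (pullback.fst f T.hom)).map u) := by
  haveI := mono_of_cover f u g hfl hsur fun i => haveI := h i; inferInstance
  haveI := epi_of_cover f u g hfl hsur fun i => haveI := h i; inferInstance
  exact isIso_of_mono_of_epi _

theorem flat_of_cover (E : X.Modules)
    (h : ∀ i, FlatMod.IsFlatOver (PicF.XTproj f (Ti i)) (FGA.ET f E (Ti i))) :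
    FlatMod.IsFlatOver (PicF.XTproj f T) (FGA.ET f E T) := fun x => by
  obtain ⟨i, x', rfl⟩ := exists_point f g hsur x
  haveI := hfl i
  haveI := flat_XTmap f (g i)
  refine (isFlatOverAt_pullback_iff (PicF.XTmap f (g i)) (PicF.XTproj f T) _ x').1 ?_
  rw [H06EGA9.isFlatOverAt_congr_iso _ (FGA.ETiso f E (g i)) x',
    isFlatOverAt_congr (isPullback_XTmap f (g i)).w _ x']
  exact isFlatOverAt_comp_of_flat (PicF.XTproj f (Ti i)) (g i).left _ x' (h i x')

end Local

theorem stable_mono_flat {F G : X.Modules} (u : F ⟶ G) ⦃T' T : Over S⦄ (g : T' ⟶ T) [Flat g.left]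
    (h : Mono ((Scheme.Modules.pullback (pullback.fst f T.hom)).map u)) :
    Mono ((Scheme.Modules.pullback (pullback.fst f T'.hom)).map u) := by
  haveI := flat_XTmap f g
  haveI : Mono ((Scheme.Modules.pullback (PicF.XTmap f g)).map
      ((Scheme.Modules.pullback (pullback.fst f T.hom)).map u)) :=
    (mono_iff _).2 fun x' => (injective_stalkLin_pullback_iff _ _ x').2 ((mono_iff _).1 h _)
  have h3 : (Scheme.Modules.pullback (pullback.fst f T'.hom)).map u =
      (FGA.ETiso f F g).inv ≫ (Scheme.Modules.pullback (PicF.XTmap f g)).map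
        ((Scheme.Modules.pullback (pullback.fst f T.hom)).map u) ≫ (FGA.ETiso f G g).hom := by
    rw [pullback_map_XTmap, Iso.inv_hom_id_assoc]
  rw [h3]
  infer_instance

theorem stable_flat (E : X.Modules) ⦃T' T : Over S⦄ (g : T' ⟶ T)
    (h : FlatMod.IsFlatOver (PicF.XTproj f T) (FGA.ET f E T)) :
    FlatMod.IsFlatOver (PicF.XTproj f T') (FGA.ET f E T') := fun x' =>
  (H06EGA9.isFlatOverAt_congr_iso _ (FGA.ETiso f E g) x').1
    (H06EGA9.isFlatOverAt_of_isPullback (isPullback_XTmap f g) _ x' (h _))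

end Groth.Agent.H8Props.FunDescent
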