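import Groth.Agent.H06Mod.StalkExact
import Groth.Agent.H06Mod.StalkFinite
import Groth.Agent.H06Mod.StalkFaithful
import Groth.Agent.H06EGA9.FlatFibreBC
import Groth.Agent.H10Coh.FinType2
import Groth.Agent.H11Tilde.ModLoc

/-!
# Morphisms of modules on stalks; inverse images along flat surjective families
-/

set_option autoImplicit false
set_option linter.style.haveILetI false

universe u

open CategoryTheory CategoryTheory.Limits AlgebraicGeometry TopologicalSpace TensorProduct

namespace Groth.Agent.H8Props.FunDescent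

open H06Mod

variable {X : Scheme.{u}}

theorem eq_zero_iff {M N : X.Modules} (φ : M ⟶ N) : φ = 0 ↔ ∀ x, stalkLin φ x = 0 := by
  refine ⟨fun h x => ?_, fun h => ?_⟩
  · refine LinearMap.ext fun a => ?_
    obtain ⟨U, hU, a, rfl⟩ := M.presheaf.exists_germ_eq a
    rw [stalkLin_germ, h]
    exact map_zero _
  · refine Scheme.Modules.hom_ext _ _ fun U => ?_
    refine AddCommGrpCat.hom_ext (AddMonoidHom.ext fun s => ?_)
    refine TopCat.Presheaf.section_ext ((SheafOfModules.toSheaf X.ringCatSheaf).obj N) U _ _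
      fun x hx => ?_
    show N.presheaf.germ U x hx (φ.app U s) = N.presheaf.germ U x hx 0
    rw [← stalkLin_germ, h x, map_zero]
    rfl

theorem mono_iff {M N : X.Modules} (φ : M ⟶ N) : Mono φ ↔ ∀ x, Function.Injective (stalkLin φ x) := by
  refine ⟨fun h x => ?_, fun h => ?_⟩
  · rw [← LinearMap.ker_eq_bot, LinearMap.ker_eq_bot']
    intro a ha
    obtain ⟨U, hU, a, rfl⟩ := M.presheaf.exists_germ_eq a
    rw [stalkLin_germ] at ha
    obtain ⟨W, hxW, i, j, hij⟩ := N.presheaf.germ_eq x hU hU (φ.app U a) 0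
      (ha.trans (map_zero _).symm)
    rw [map_zero] at hij
    have h0 : M.presheaf.map i.op a = 0 :=
      H10Coh.injective_app_of_mono' φ W
        (((H11Tilde.app_map_apply φ (leOfHom i) a).trans hij).trans (map_zero _).symm)
    rw [← TopCat.Presheaf.germ_res_apply M.presheaf i x hxW a, h0, map_zero]
  · refine H11Tilde.mono_of_injective φ fun W s hs y hy => ?_
    have h0 : M.presheaf.germ W y hy s = 0 := by
      apply h y
      rw [stalkLin_germ, hs, map_zero, map_zero]
    obtain ⟨V, hyV, i, j, hij⟩ := M.presheaf.germ_eq y hy hy s 0 (h0.trans (map_zero _).symm)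
    rw [map_zero] at hij
    exact ⟨V, leOfHom i, hyV, hij⟩

theorem epi_iff {M N : X.Modules} (φ : M ⟶ N) : Epi φ ↔ ∀ x, Function.Surjective (stalkLin φ x) := by
  refine ⟨fun h x => surjective_stalk_of_epi φ x, fun h => ?_⟩
  refine H11Tilde.epi_of_locally_surjective φ fun W t x hx => ?_
  obtain ⟨a, ha⟩ := h x (N.presheaf.germ W x hx t)
  obtain ⟨U, hU, a, rfl⟩ := M.presheaf.exists_germ_eq a
  rw [stalkLin_germ] at ha
  obtain ⟨V, hxV, i, j, hij⟩ := N.presheaf.germ_eq x hU hx _ _ ha
  exact ⟨V, leOfHom j, hxV, M.presheaf.map i.op a,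
    (H11Tilde.app_map_apply φ (leOfHom i) a).trans hij⟩

theorem isIso_iff {M N : X.Modules} (φ : M ⟶ N) :
    IsIso φ ↔ ∀ x, Function.Bijective (stalkLin φ x) := by
  refine ⟨fun h x => ⟨(mono_iff φ).1 inferInstance x, (epi_iff φ).1 inferInstance x⟩, fun h => ?_⟩
  haveI := (mono_iff φ).2 fun x => (h x).1
  haveI := (epi_iff φ).2 fun x => (h x).2
  exact isIso_of_mono_of_epi φ

attribute [local instance] stalkAlgebra

variable {Y : Scheme.{u}} (f : X ⟶ Y)

theorem pullStalkEquiv_naturality {M N : Y.Modules} (φ : M ⟶ N) (x : X)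
    (t : X.presheaf.stalk x ⊗[Y.presheaf.stalk (f x)] M.presheaf.stalk (f x)) :
    stalkLin ((Scheme.Modules.pullback f).map φ) x (pullStalkEquiv f M x t) =
      pullStalkEquiv f N x ((stalkLin φ (f x)).lTensor (X.presheaf.stalk x) t) := by
  induction t with
  | zero => simp only [map_zero]
  | add a b ha hb => simp only [map_add, ha, hb]
  | tmul r m =>
    rw [LinearMap.lTensor_tmul]
    show stalkLin ((Scheme.Modules.pullback f).map φ) x (pullStalkLin f M x (r ⊗ₜ m)) =
      pullStalkLin f N x (r ⊗ₜ stalkLin φ (f x) m)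
    rw [pullStalkLin_tmul, pullStalkLin_tmul, map_smul]
    exact congrArg _ (pullStalk_naturality f M x φ m)

variable [Flat f]

theorem injective_stalkLin_pullback_iff {M N : Y.Modules} (φ : M ⟶ N) (x : X) :
    Function.Injective (stalkLin ((Scheme.Modules.pullback f).map φ) x) ↔
      Function.Injective (stalkLin φ (f x)) := by
  haveI := faithfullyFlat_stalk f x
  rw [← Module.FaithfullyFlat.lTensor_injective_iff_injective (Y.presheaf.stalk (f x))
    (X.presheaf.stalk x) (stalkLin φ (f x))]
  have e : (stalkLin ((Scheme.Modules.pullback f).map φ) x) ∘ (pullStalkEquiv f M x) =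
      (pullStalkEquiv f N x) ∘ ((stalkLin φ (f x)).lTensor (X.presheaf.stalk x)) :=
    funext (pullStalkEquiv_naturality f φ x)
  rw [← Function.Injective.of_comp_iff' _ (pullStalkEquiv f M x).bijective, e,
    (pullStalkEquiv f N x).injective.of_comp_iff]

theorem surjective_stalkLin_pullback_iff {M N : Y.Modules} (φ : M ⟶ N) (x : X) :
    Function.Surjective (stalkLin ((Scheme.Modules.pullback f).map φ) x) ↔
      Function.Surjective (stalkLin φ (f x)) := by
  haveI := faithfullyFlat_stalk f x
  rw [← Module.FaithfullyFlat.lTensor_surjective_iff_surjective (Y.presheaf.stalk (f x))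
    (X.presheaf.stalk x) (stalkLin φ (f x))]
  have e : (stalkLin ((Scheme.Modules.pullback f).map φ) x) ∘ (pullStalkEquiv f M x) =
      (pullStalkEquiv f N x) ∘ ((stalkLin φ (f x)).lTensor (X.presheaf.stalk x)) :=
    funext (pullStalkEquiv_naturality f φ x)
  rw [← Function.Surjective.of_comp_iff _ (pullStalkEquiv f M x).surjective, e,
    Function.Surjective.of_comp_iff' (pullStalkEquiv f N x).bijective]

theorem stalkLin_eq_zero_of_pullback {M N : Y.Modules} (φ : M ⟶ N) (x : X)
    (h : stalkLin ((Scheme.Modules.pullback f).map φ) x = 0) : stalkLin φ (f x) = 0 := by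
  refine LinearMap.ext fun m => pullStalk_injective f N x ?_
  have h1 := pullStalk_naturality f M x φ m
  refine h1.symm.trans ((LinearMap.congr_fun h _).trans ?_)
  exact (map_zero (pullStalk f N x).hom).symm

end Groth.Agent.H8Props.FunDescent
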