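import Groth.Agent.H8Props.RelFP.PullSections
import Groth.Agent.H8Props.FunDescent.Stalk
import Groth.Agent.H17.AssPts

/-!
# An inverse image of a morphism of quasi-coherent modules on affine sections
-/

set_option autoImplicit false
set_option linter.style.haveILetI false

universe u

open CategoryTheory Limits AlgebraicGeometry TopologicalSpace Opposite TensorProduct

namespace Groth.Agent.H8Props.FunDescent

open H06Mod

/-- A morphism of modules on sections, linearly. -/
noncomputable def secLin {X : Scheme.{u}} {M N : X.Modules} (φ : M ⟶ N) (U : X.Opens) :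
    Γ(M, U) →ₗ[Γ(X, U)] Γ(N, U) where
  toFun := φ.app U
  map_add' := map_add _
  map_smul' a m := φ.app_smul a m

section Stalk

variable {X : Scheme.{u}} {M N : X.Modules} (φ : M ⟶ N) {W : X.Opens} (hW : IsAffineOpen W)
  {x : X} (hx : x ∈ W)

include hW hx

theorem stalkLin_eq_zero_of_app (hM : Coh.IsQCoh M) (h : ∀ m, φ.app W m = 0) :
    stalkLin φ x = 0 := by
  refine LinearMap.ext fun a => ?_
  obtain ⟨t, s, ht, hts⟩ := H17.AssPts.exists_smul_germ_eq M hM hW hx a
  have h1 : X.presheaf.germ W x hx t • stalkLin φ x a = 0 := by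
    rw [← map_smul, hts, stalkLin_germ, h, map_zero]
  exact ((H17.AssPts.isUnit_germ_iff hx t).2 ht).smul_eq_zero.1 h1

theorem surjective_stalkLin_of_app (hN : Coh.IsQCoh N) (h : Function.Surjective (φ.app W)) :
    Function.Surjective (stalkLin φ x) := fun b => by
  obtain ⟨t, s, ht, hts⟩ := H17.AssPts.exists_smul_germ_eq N hN hW hx b
  obtain ⟨s', hs'⟩ := h s
  have hu := (H17.AssPts.isUnit_germ_iff hx t).2 ht
  refine ⟨(↑hu.unit⁻¹ : X.presheaf.stalk x) • M.presheaf.germ W x hx s', ?_⟩
  rw [map_smul, stalkLin_germ, hs', ← hts, smul_smul, hu.val_inv_mul, one_smul]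

theorem injective_stalkLin_of_app (hM : Coh.IsQCoh M) (hN : Coh.IsQCoh N)
    (h : Function.Injective (φ.app W)) : Function.Injective (stalkLin φ x) := by
  rw [injective_iff_map_eq_zero]
  intro a ha
  obtain ⟨t, s, ht, hts⟩ := H17.AssPts.exists_smul_germ_eq M hM hW hx a
  have h1 : N.presheaf.germ W x hx (φ.app W s) = 0 := by
    rw [← stalkLin_germ, ← hts, map_smul, ha, smul_zero]
  obtain ⟨v, hv, hvs⟩ := H17.AssPts.exists_smul_eq_zero_of_germ N hN hW hx h1
  have h2 : v • s = 0 := h ((φ.app_smul v s).trans (hvs.trans (map_zero _).symm))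
  have h3 : M.presheaf.germ W x hx s = 0 := H17.AssPts.germ_eq_zero_of_smul M hx hv h2
  exact ((H17.AssPts.isUnit_germ_iff hx t).2 ht).smul_eq_zero.1 (hts.trans h3)

end Stalk

variable {Z X : Scheme.{u}} (g : Z ⟶ X) {F G : X.Modules} (u : F ⟶ G) {U : X.Opens} {W : Z.Opens}
  (hWU : W ≤ g ⁻¹ᵁ U)

theorem app_pullLin (m : Γ(F, U)) :
    ((Scheme.Modules.pullback g).map u).app W (PullSections.pullLin g F hWU m) =
      PullSections.pullLin g G hWU (u.app U m) := by
  show ((Scheme.Modules.pullback g).map u).app W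
      (((Scheme.Modules.pullback g).obj F).presheaf.map (homOfLE hWU).op (OmegaSh.pullSect g F U m)) =
    ((Scheme.Modules.pullback g).obj G).presheaf.map (homOfLE hWU).op
      (OmegaSh.pullSect g G U (u.app U m))
  refine (congr($(((Scheme.Modules.pullback g).map u).mapPresheaf.naturality (homOfLE hWU).op)
    (OmegaSh.pullSect g F U m))).trans ?_
  refine congrArg (((Scheme.Modules.pullback g).obj G).presheaf.map (homOfLE hWU).op) ?_
  exact congr($(congr(Scheme.Modules.Hom.app
    $((Scheme.Modules.pullbackPushforwardAdjunction g).unit.naturality u) U)) m).symm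

variable (hU : IsAffineOpen U) (hW : IsAffineOpen W) (hF : Coh.IsQCoh F) (hG : Coh.IsQCoh G)

include hU hW hF hG

/-- The comparison with the extension of scalars of the map on sections. -/
theorem exists_app_comparison :
    letI := (g.appLE U W hWU).hom.toAlgebra
    ∃ (a : (Γ(Z, W) ⊗[Γ(X, U)] Γ(F, U)) ≃+ Γ((Scheme.Modules.pullback g).obj F, W))
      (b : (Γ(Z, W) ⊗[Γ(X, U)] Γ(G, U)) ≃+ Γ((Scheme.Modules.pullback g).obj G, W)),
      ∀ t, ((Scheme.Modules.pullback g).map u).app W (a t) =
        b ((secLin u U).lTensor Γ(Z, W) t) := by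
  letI := (g.appLE U W hWU).hom.toAlgebra
  letI := Module.compHom Γ((Scheme.Modules.pullback g).obj F, W) (g.appLE U W hWU).hom
  letI := Module.compHom Γ((Scheme.Modules.pullback g).obj G, W) (g.appLE U W hWU).hom
  haveI : IsScalarTower Γ(X, U) Γ(Z, W) Γ((Scheme.Modules.pullback g).obj F, W) :=
    .of_algebraMap_smul fun _ _ => rfl
  haveI : IsScalarTower Γ(X, U) Γ(Z, W) Γ((Scheme.Modules.pullback g).obj G, W) :=
    .of_algebraMap_smul fun _ _ => rfl
  have hbF := PullSections.isBaseChange_pullLin g F hWU hF hU hW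
  have hbG := PullSections.isBaseChange_pullLin g G hWU hG hU hW
  refine ⟨hbF.equiv.toAddEquiv, hbG.equiv.toAddEquiv, fun t => ?_⟩
  show ((Scheme.Modules.pullback g).map u).app W (hbF.equiv t) = hbG.equiv _
  induction t with
  | zero => simp only [map_zero]
  | add a b ha hb => simp only [map_add, ha, hb]
  | tmul c m =>
    rw [LinearMap.lTensor_tmul, IsBaseChange.equiv_tmul, IsBaseChange.equiv_tmul,
      Scheme.Modules.Hom.app_smul, app_pullLin]
    rfl

theorem app_eq_zero_iff :
    letI := (g.appLE U W hWU).hom.toAlgebra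
    (secLin u U).lTensor Γ(Z, W) = 0 ↔ ∀ m, ((Scheme.Modules.pullback g).map u).app W m = 0 := by
  letI := (g.appLE U W hWU).hom.toAlgebra
  obtain ⟨a, b, hab⟩ := exists_app_comparison g u hWU hU hW hF hG
  refine ⟨fun h m => ?_, fun h => LinearMap.ext fun t => b.injective ?_⟩
  · obtain ⟨t, rfl⟩ := a.surjective m
    rw [hab, h, LinearMap.zero_apply, map_zero]
  · rw [← hab, h, LinearMap.zero_apply, map_zero]

theorem app_surjective_iff :
    letI := (g.appLE U W hWU).hom.toAlgebra
    Function.Surjective ((secLin u U).lTensor Γ(Z, W)) ↔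
      Function.Surjective (((Scheme.Modules.pullback g).map u).app W) := by
  letI := (g.appLE U W hWU).hom.toAlgebra
  obtain ⟨a, b, hab⟩ := exists_app_comparison g u hWU hU hW hF hG
  rw [← Function.Surjective.of_comp_iff' b.bijective, ← Function.Surjective.of_comp_iff
    (((Scheme.Modules.pullback g).map u).app W) a.surjective]
  exact Iff.of_eq (congrArg Function.Surjective (funext hab).symm)

theorem app_bijective_iff :
    letI := (g.appLE U W hWU).hom.toAlgebra
    Function.Bijective ((secLin u U).lTensor Γ(Z, W)) ↔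
      Function.Bijective (((Scheme.Modules.pullback g).map u).app W) := by
  letI := (g.appLE U W hWU).hom.toAlgebra
  obtain ⟨a, b, hab⟩ := exists_app_comparison g u hWU hU hW hF hG
  rw [← Function.Bijective.of_comp_iff' b.bijective, ← Function.Bijective.of_comp_iff
    (((Scheme.Modules.pullback g).map u).app W) a.bijective]
  exact Iff.of_eq (congrArg Function.Bijective (funext hab).symm)

end Groth.Agent.H8Props.FunDescent
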