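import Groth.Agent.H8Props.FunDescent.TensorStage
import Groth.Agent.H8Props.FunDescent.PullHom
import Groth.Agent.H8Props.FunDescent.Functor
import Groth.Agent.H8Props.FinLocFree.Sheaf
import Groth.Agent.H7Lim.Sections
import Groth.Agent.H10Coh.QCohOps
import Mathlib.CategoryTheory.Limits.Types.Filtered

/-!
# Limit preservation for zero / surjective / bijective base changes of a morphism of modules
-/

set_option autoImplicit false
set_option linter.style.haveILetI false

universe u

open CategoryTheory Limits AlgebraicGeometry TopologicalSpace Opposite TensorProduct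

namespace Groth.Agent.H8Props.FunDescent

open H06Mod

variable {X S : Scheme.{u}} (f : X ⟶ S)

/-- A stable condition holding at a stage as soon as it holds in the limit gives a limit preserving
functor. -/
theorem isLimitPreserving_genPSp (P : Over S → Prop) (hst : ∀ ⦃T T₀ : Over S⦄ (_ : T ⟶ T₀), P T₀ → P T)
    (hdesc : ∀ {I : Type u} [SmallCategory I] [IsCofiltered I] (D : I ⥤ Over S) (c : Cone D),
      IsLimit ((Over.forget S).mapCone c) → (∀ i, IsAffine (D.obj i).left) → P c.pt →
      ∃ i, P (D.obj i)) :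
    AlgSp.IsLimitPreserving (FlatFun.genPSp S P) := by
  intro I _ _ D c hc hD _
  have hsub : ∀ T : Over S, Subsingleton ((FlatFun.genPSp S P).obj (op T)) :=
    fun T => FlatFun.genPSp_subsingleton S P _
  refine ⟨Types.FilteredColimit.isColimitOf _ _ (fun x => ?_) fun i j xi xj _ => ?_⟩
  · obtain ⟨i, hi⟩ := hdesc D c hc hD ((FlatFun.genPSp_nonempty_iff_of_stable P hst c.pt).1 ⟨x⟩)
    exact ⟨op i, (FlatFun.genPSp_nonempty_of P hi).some, @Subsingleton.elim _ (hsub c.pt) _ _⟩
  · obtain ⟨k, a, b, -⟩ := IsFilteredOrEmpty.cocone_objs i j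
    exact ⟨k, a, b, @Subsingleton.elim _ (hsub (D.obj k.unop)) _ _⟩

theorem XTmap_id (T : Over S) : PicF.XTmap f (𝟙 T) = 𝟙 _ := by
  apply pullback.hom_ext <;> simp [PicF.XTmap]

theorem XTmap_comp {T T' T'' : Over S} (g' : T'' ⟶ T') (g : T' ⟶ T) :
    PicF.XTmap f (g' ≫ g) = PicF.XTmap f g' ≫ PicF.XTmap f g := by
  apply pullback.hom_ext
  · rw [Category.assoc]
    exact (FGA.XTmap_fst f (g' ≫ g)).trans
      ((congrArg (PicF.XTmap f g' ≫ ·) (FGA.XTmap_fst f g)).trans (FGA.XTmap_fst f g')).symm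
  · have h1 := (isPullback_XTmap f (g' ≫ g)).w
    have h2 := (isPullback_XTmap f g').w
    have h3 := (isPullback_XTmap f g).w
    refine h1.trans ?_
    rw [Category.assoc]
    refine Eq.trans ?_ (congrArg (PicF.XTmap f g' ≫ ·) h3).symm
    rw [← Category.assoc, h2, Category.assoc, Over.comp_left]

variable {I : Type u} [SmallCategory I] (D : I ⥤ Over S) (c : Cone D)

/-- The system of base changes. -/
noncomputable def xtDiag : I ⥤ Scheme.{u} where
  obj i := PicF.XT f (D.obj i)
  map a := PicF.XTmap f (D.map a)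
  map_id i := by rw [D.map_id, XTmap_id]
  map_comp a b := by rw [D.map_comp, XTmap_comp]

/-- The base change of the cone. -/
noncomputable def xtCone : Cone (xtDiag f D) where
  pt := PicF.XT f c.pt
  π :=
    { app := fun i => PicF.XTmap f (c.π.app i)
      naturality := fun i j a => by
        show 𝟙 _ ≫ PicF.XTmap f (c.π.app j) = PicF.XTmap f (c.π.app i) ≫ PicF.XTmap f (D.map a)
        rw [Category.id_comp, ← XTmap_comp, c.w a] }

/-- The projection to the system. -/
noncomputable def xtProj : xtDiag f D ⟶ D ⋙ Over.forget S where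
  app i := PicF.XTproj f (D.obj i)
  naturality i j a := (isPullback_XTmap f (D.map a)).w

/-- Base change commutes with the limit. -/
noncomputable def isLimitXtCone [IsCofiltered I] (hc : IsLimit ((Over.forget S).mapCone c)) :
    IsLimit (xtCone f D c) :=
  haveI : IsConnected I := IsCofiltered.isConnected I
  isLimitOfIsPullbackOfIsConnected (xtProj f D) (xtCone f D c) ((Over.forget S).mapCone c)
    { hom := PicF.XTproj f c.pt
      w := fun i => ((isPullback_XTmap f (c.π.app i)).w).symm }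
    (fun i => isPullback_XTmap f (c.π.app i)) hc

theorem isAffineHom_xtDiag (hD : ∀ i, IsAffine (D.obj i).left) (i j : I) (a : i ⟶ j) :
    IsAffineHom ((xtDiag f D).map a) := by
  haveI := hD i
  haveI := hD j
  exact MorphismProperty.of_isPullback (P := @IsAffineHom) (isPullback_XTmap f (D.map a)).flip
    inferInstance

theorem compactSpace_xtDiag [QuasiCompact f] (hD : ∀ i, IsAffine (D.obj i).left) (i : I) :
    CompactSpace ((xtDiag f D).obj i) := by
  haveI := hD i
  exact inferInstanceAs (CompactSpace ↑(pullback f (D.obj i).hom))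

section Chart

variable {F G : X.Modules} {i : I} {U : X.Opens} {W : ((xtDiag f D).obj i).Opens}
  (hWU : W ≤ pullback.fst f (D.obj i).hom ⁻¹ᵁ U)

include hWU in
theorem map_preimage_le_fst {j : I} (a : j ⟶ i) :
    (xtDiag f D).map a ⁻¹ᵁ W ≤ pullback.fst f (D.obj j).hom ⁻¹ᵁ U := by
  refine ((PicF.XTmap f (D.map a)).preimage_mono hWU).trans (le_of_eq ?_)
  rw [← Scheme.Hom.comp_preimage]
  exact congrArg (fun k => k ⁻¹ᵁ U) (FGA.XTmap_fst f (D.map a))

include hWU in
theorem π_preimage_le_fst :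
    (xtCone f D c).π.app i ⁻¹ᵁ W ≤ pullback.fst f c.pt.hom ⁻¹ᵁ U := by
  refine ((PicF.XTmap f (c.π.app i)).preimage_mono hWU).trans (le_of_eq ?_)
  rw [← Scheme.Hom.comp_preimage]
  exact congrArg (fun k => k ⁻¹ᵁ U) (FGA.XTmap_fst f (c.π.app i))

/-- The stage rings over a chart. -/
abbrev chartRing (W : ((xtDiag f D).obj i).Opens) (j : Over i) : Type u :=
  Γ((xtDiag f D).obj j.left, (xtDiag f D).map j.hom ⁻¹ᵁ W)

/-- Their algebra structures over the sections of `X`. -/
@[reducible] noncomputable def chartAlgebra (j : Over i) : Algebra Γ(X, U) (chartRing f D W j) :=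
  ((pullback.fst f (D.obj j.left).hom).appLE U ((xtDiag f D).map j.hom ⁻¹ᵁ W)
    (map_preimage_le_fst f D hWU j.hom)).hom.toAlgebra

/-- The algebra structure of the limit ring. -/
@[reducible] noncomputable def limitAlgebra :
    Algebra Γ(X, U) Γ((xtCone f D c).pt, (xtCone f D c).π.app i ⁻¹ᵁ W) :=
  ((pullback.fst f c.pt.hom).appLE U ((xtCone f D c).π.app i ⁻¹ᵁ W)
    (π_preimage_le_fst f D c hWU)).hom.toAlgebra

theorem appLE_comp_apply {P Q R : Scheme.{u}} (a : P ⟶ Q) (b : Q ⟶ R) (e : P ⟶ R) (h : a ≫ b = e)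
    {U : R.Opens} {V : Q.Opens} {W' : P.Opens} (h1 : W' ≤ a ⁻¹ᵁ V) (h2 : V ≤ b ⁻¹ᵁ U)
    (h3 : W' ≤ e ⁻¹ᵁ U) (r : Γ(R, U)) :
    a.appLE V W' h1 (b.appLE U V h2 r) = e.appLE U W' h3 r := by
  subst h
  rw [← CommRingCat.comp_apply, Scheme.Hom.appLE_comp_appLE]

theorem chart_w {j k : Over i} (ψ : k ⟶ j) :
    (xtDiag f D).map k.hom ⁻¹ᵁ W ≤ (xtDiag f D).map ψ.left ⁻¹ᵁ (xtDiag f D).map j.hom ⁻¹ᵁ W := by
  rw [← Scheme.Hom.comp_preimage, ← (xtDiag f D).map_comp, Over.w ψ]

theorem chart_π (j : Over i) :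
    (xtCone f D c).π.app i ⁻¹ᵁ W ≤ (xtCone f D c).π.app j.left ⁻¹ᵁ (xtDiag f D).map j.hom ⁻¹ᵁ W :=
  H7Lim.π_preimage_le j.hom W

/-- The system of rings over a chart. -/
noncomputable def chartSystem [IsCofiltered I] (hc : IsLimit ((Over.forget S).mapCone c))
    (hD : ∀ i, IsAffine (D.obj i).left) (hW : IsAffineOpen W) :
    letI := fun j : Over i => chartAlgebra f D hWU j
    letI := limitAlgebra f D c hWU
    Stage.Sys (R := Γ(X, U)) (chartRing f D W) Γ((xtCone f D c).pt, (xtCone f D c).π.app i ⁻¹ᵁ W)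
      (fun j k => (k ⟶ j)) :=
  letI := fun j : Over i => chartAlgebra f D hWU j
  letI := limitAlgebra f D c hWU
  haveI := isAffineHom_xtDiag f D hD
  { g := fun j => AlgHom.mk (((xtCone f D c).π.app j.left).appLE _ _ (chart_π f D c j)).hom fun r =>
      appLE_comp_apply (PicF.XTmap f (c.π.app j.left)) (pullback.fst f (D.obj j.left).hom)
        (pullback.fst f c.pt.hom) (FGA.XTmap_fst f (c.π.app j.left)) _ _ _ r
    m := fun {j k} ψ => AlgHom.mk (((xtDiag f D).map ψ.left).appLE _ _ (chart_w f D ψ)).hom fun r =>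
      appLE_comp_apply (PicF.XTmap f (D.map ψ.left)) (pullback.fst f (D.obj j.left).hom)
        (pullback.fst f (D.obj k.left).hom) (FGA.XTmap_fst f (D.map ψ.left)) _ _ _ r
    w := fun {j k} ψ x =>
      appLE_comp_apply ((xtCone f D c).π.app k.left) ((xtDiag f D).map ψ.left)
        ((xtCone f D c).π.app j.left) ((xtCone f D c).w ψ.left) _ _ _ x
    comp := fun {j k l} a b => ⟨b ≫ a, fun x =>
      (appLE_comp_apply ((xtDiag f D).map b.left) ((xtDiag f D).map a.left)
        ((xtDiag f D).map (b ≫ a).left) (by rw [Over.comp_left, Functor.map_comp]) _ _ _ x).symm⟩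
    dir := fun j k =>
      ⟨IsCofiltered.min j k, ⟨IsCofiltered.minToLeft j k⟩, ⟨IsCofiltered.minToRight j k⟩⟩
    ne := ⟨Over.mk (𝟙 i)⟩
    surj := fun y => by
      obtain ⟨j, φ, t, ht⟩ := H7Lim.exists_secπ_eq (isLimitXtCone f D c hc) hW y
      exact ⟨Over.mk φ, t, ht⟩
    eq := fun j x y h => by
      obtain ⟨k, ψ, hk⟩ := H7Lim.exists_secMap_eq (isLimitXtCone f D c hc) j.hom hW.isCompact x y h
      exact ⟨Over.mk (ψ ≫ j.hom), Over.homMk ψ, hk⟩ }

end Chart

/-- The conditions considered. -/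
inductive Kind | zero | epi | iso

/-- The condition on a linear map. -/
def Kind.holds (k : Kind) {A B : Type u} [AddCommGroup A] [AddCommGroup B] (φ : A →+ B) : Prop :=
  match k with
  | .zero => φ = 0
  | .epi => Function.Surjective φ
  | .iso => Function.Bijective φ

/-- The condition on a morphism of modules. -/
def Kind.holdsMod (k : Kind) {Z : Scheme.{u}} {M N : Z.Modules} (φ : M ⟶ N) : Prop :=
  match k with
  | .zero => φ = 0
  | .epi => Epi φ
  | .iso => IsIso φ

variable {F G : X.Modules} (hF : Coh.IsQCoh F) (hG : Coh.IsQCoh G) (u : F ⟶ G)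

include hF hG

theorem Kind.holds_of_holdsMod (k : Kind) {Z : Scheme.{u}} (g : Z ⟶ X) {U : X.Opens} {W : Z.Opens}
    (hWU : W ≤ g ⁻¹ᵁ U) (hU : IsAffineOpen U) (hW : IsAffineOpen W)
    (h : k.holdsMod ((Scheme.Modules.pullback g).map u)) :
    letI := (g.appLE U W hWU).hom.toAlgebra
    k.holds ((secLin u U).lTensor Γ(Z, W)).toAddMonoidHom := by
  letI := (g.appLE U W hWU).hom.toAlgebra
  cases k with
  | zero =>
    refine AddMonoidHom.ext fun t => LinearMap.congr_fun
      ((app_eq_zero_iff g u hWU hU hW hF hG).2 fun m => ?_) t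
    rw [show (Scheme.Modules.pullback g).map u = 0 from h]
    rfl
  | epi =>
    exact (app_surjective_iff g u hWU hU hW hF hG).2
      (@H10Coh.surjective_app_of_epi _ _ _ _ (H29Fitt.isQCoh_pullback g F hF)
        (H29Fitt.isQCoh_pullback g G hG) h _ hW)
  | iso =>
    haveI : IsIso ((Scheme.Modules.pullback g).map u) := h
    refine (app_bijective_iff g u hWU hU hW hF hG).2 ?_
    refine Function.bijective_iff_has_inverse.2
      ⟨(inv ((Scheme.Modules.pullback g).map u)).app W, fun m => ?_, fun m => ?_⟩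
    · exact congr($(congr(Scheme.Modules.Hom.app $(IsIso.hom_inv_id ((Scheme.Modules.pullback g).map u)) W)) m)
    · exact congr($(congr(Scheme.Modules.Hom.app $(IsIso.inv_hom_id ((Scheme.Modules.pullback g).map u)) W)) m)

theorem Kind.holdsMod_of_holds (k : Kind) {Z : Scheme.{u}} (g : Z ⟶ X)
    (h : ∀ z : Z, ∃ (U : X.Opens) (W : Z.Opens) (hWU : W ≤ g ⁻¹ᵁ U), z ∈ W ∧ IsAffineOpen U ∧
      IsAffineOpen W ∧
      (letI := (g.appLE U W hWU).hom.toAlgebra
       k.holds ((secLin u U).lTensor Γ(Z, W)).toAddMonoidHom)) :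
    k.holdsMod ((Scheme.Modules.pullback g).map u) := by
  have qF := H29Fitt.isQCoh_pullback g F hF
  have qG := H29Fitt.isQCoh_pullback g G hG
  cases k with
  | zero =>
    refine (eq_zero_iff _).2 fun z => ?_
    obtain ⟨U, W, hWU, hz, hU, hW, H⟩ := h z
    letI := (g.appLE U W hWU).hom.toAlgebra
    exact stalkLin_eq_zero_of_app _ hW hz qF
      ((app_eq_zero_iff g u hWU hU hW hF hG).1 (LinearMap.ext fun t => DFunLike.congr_fun H t))
  | epi =>
    refine (epi_iff _).2 fun z => ?_
    obtain ⟨U, W, hWU, hz, hU, hW, H⟩ := h z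
    exact surjective_stalkLin_of_app _ hW hz qG ((app_surjective_iff g u hWU hU hW hF hG).1 H)
  | iso =>
    refine (isIso_iff _).2 fun z => ?_
    obtain ⟨U, W, hWU, hz, hU, hW, H⟩ := h z
    have hb := (app_bijective_iff g u hWU hU hW hF hG).1 H
    exact ⟨injective_stalkLin_of_app _ hW hz qF qG hb.1, surjective_stalkLin_of_app _ hW hz qG hb.2⟩

theorem Kind.exists_stage [QuasiCompact f] (k : Kind)
    (hfin : ∀ U : X.Opens, IsAffineOpen U →
      match k with
      | .zero => Module.Finite Γ(X, U) Γ(F, U)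
      | .epi => Module.Finite Γ(X, U) Γ(G, U)
      | .iso => Module.Finite Γ(X, U) Γ(F, U) ∧ Module.FinitePresentation Γ(X, U) Γ(G, U))
    {I : Type u} [SmallCategory I] [IsCofiltered I] (D : I ⥤ Over S) (c : Cone D)
    (hc : IsLimit ((Over.forget S).mapCone c)) (hD : ∀ i, IsAffine (D.obj i).left)
    (h : k.holdsMod ((Scheme.Modules.pullback (pullback.fst f c.pt.hom)).map u)) :
    ∃ i, k.holdsMod ((Scheme.Modules.pullback (pullback.fst f (D.obj i).hom)).map u) := by
  obtain ⟨i⟩ := IsCofiltered.nonempty (C := I)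
  haveI := compactSpace_xtDiag f D hD i
  have chart : ∀ z : ((xtDiag f D).obj i : Scheme.{u}), ∃ (U : X.Opens) (W : ((xtDiag f D).obj i).Opens),
      W ≤ pullback.fst f (D.obj i).hom ⁻¹ᵁ U ∧ z ∈ W ∧ IsAffineOpen U ∧ IsAffineOpen W := fun z => by
    obtain ⟨_, ⟨U, hU, rfl⟩, hzU, -⟩ := X.isBasis_affineOpens.exists_subset_of_mem_open
      (Set.mem_univ (pullback.fst f (D.obj i).hom z)) isOpen_univ
    let O : ((xtDiag f D).obj i).Opens := pullback.fst f (D.obj i).hom ⁻¹ᵁ U
    obtain ⟨_, ⟨W, hW, rfl⟩, hzW, hle⟩ := ((xtDiag f D).obj i).isBasis_affineOpens.exists_subset_of_mem_open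
      (show z ∈ (O : Set _) from hzU) O.isOpen
    exact ⟨U, W, hle, hzW, hU, hW⟩
  choose U W hWU hzW hU hW using chart
  obtain ⟨s, hs⟩ := isCompact_univ.elim_finite_subcover (fun z => (W z : Set _)) (fun z => (W z).isOpen)
    (fun z _ => ⟨(W z : Set _), ⟨z, rfl⟩, hzW z⟩)
  letI alg := fun z (j : Over i) => chartAlgebra f D (hWU z) j
  letI algLim := fun z => limitAlgebra f D c (hWU z)
  have sys := fun z => chartSystem f D c (hWU z) hc hD (hW z)
  -- stability along the system
  have stab : ∀ z (j l : Over i), (l ⟶ j) →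
      k.holds ((secLin u (U z)).lTensor (chartRing f D (W z) j)).toAddMonoidHom →
      k.holds ((secLin u (U z)).lTensor (chartRing f D (W z) l)).toAddMonoidHom := by
    intro z j l ψ H
    cases k with
    | zero =>
      exact AddMonoidHom.ext fun t => LinearMap.congr_fun (Stage.eq_zero_of_algHom ((sys z).m ψ) _
        (LinearMap.ext fun t => DFunLike.congr_fun H t)) t
    | epi => exact Stage.surjective_of_algHom ((sys z).m ψ) _ H
    | iso => exact Stage.bijective_of_algHom ((sys z).m ψ) _ H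
  have one : ∀ z, ∃ j : Over i,
      k.holds ((secLin u (U z)).lTensor (chartRing f D (W z) j)).toAddMonoidHom := by
    intro z
    haveI : IsAffineHom ((xtCone f D c).π.app i) := by
      haveI := isAffineHom_xtDiag f D hD
      exact isAffineHom_π_app _ _ (isLimitXtCone f D c hc) i
    have H := k.holds_of_holdsMod hF hG u (pullback.fst f c.pt.hom) (π_preimage_le_fst f D c (hWU z))
      (hU z) ((hW z).preimage ((xtCone f D c).π.app i)) h
    have hm := hfin (U z) (hU z)
    cases k with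
    | zero =>
      haveI : Module.Finite Γ(X, U z) Γ(F, U z) := hm
      obtain ⟨j, -, hj⟩ := (sys z).exists_lTensor_eq_zero (secLin u (U z)) (LinearMap.ext fun t => DFunLike.congr_fun H t) (Over.mk (𝟙 i))
      exact ⟨j, AddMonoidHom.ext fun t => LinearMap.congr_fun hj t⟩
    | epi =>
      haveI : Module.Finite Γ(X, U z) Γ(G, U z) := hm
      obtain ⟨j, -, hj⟩ := (sys z).exists_lTensor_surjective (secLin u (U z)) H (Over.mk (𝟙 i))
      exact ⟨j, hj⟩
    | iso =>
      haveI : Module.Finite Γ(X, U z) Γ(F, U z) := hm.1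
      haveI : Module.FinitePresentation Γ(X, U z) Γ(G, U z) := hm.2
      obtain ⟨j, -, hj⟩ := (sys z).exists_lTensor_bijective (secLin u (U z)) H (Over.mk (𝟙 i))
      exact ⟨j, hj⟩
  choose j hj using one
  obtain ⟨l, hl⟩ : ∃ l : Over i, ∀ z ∈ s,
      k.holds ((secLin u (U z)).lTensor (chartRing f D (W z) l)).toAddMonoidHom := by
    classical
    obtain ⟨l, hl⟩ := IsCofiltered.inf_objs_exists (s.image j)
    exact ⟨l, fun z hz => stab z _ _ (hl (Finset.mem_image_of_mem _ hz)).some (hj z)⟩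
  refine ⟨l.left, k.holdsMod_of_holds hF hG u _ fun z => ?_⟩
  obtain ⟨z₀, hz₀, hzz⟩ := Set.mem_iUnion₂.1 (hs (Set.mem_univ ((xtDiag f D).map l.hom z)))
  have := isAffineHom_xtDiag f D hD l.left i l.hom
  exact ⟨U z₀, (xtDiag f D).map l.hom ⁻¹ᵁ W z₀, map_preimage_le_fst f D (hWU z₀) l.hom, hzz, hU z₀,
    @IsAffineOpen.preimage _ _ _ (hW z₀) ((xtDiag f D).map l.hom) this, hl z₀ hz₀⟩

end Groth.Agent.H8Props.FunDescent
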