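import Groth.Agent.H8Props.FunDescent.GenericFun
import Groth.Agent.H8Props.FunDescent.Limit
import Groth.Agent.H8Props.FunDescent.DimLimit

/-!
# `H_p` is limit preserving
-/

set_option autoImplicit false
set_option linter.style.haveILetI false

universe u

open CategoryTheory CategoryTheory.Limits AlgebraicGeometry TopologicalSpace Opposite TensorProduct

namespace Groth.Agent.H8Props.FunDescent

open H29Fitt

theorem stalkFree_unique {X : Scheme.{u}} {F : X.Modules} {p r : ℕ} {x : X} (h : StalkFree F p x)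
    (h' : StalkFree F r x) : r = p := by
  obtain ⟨b⟩ := h
  obtain ⟨b'⟩ := h'
  simpa using Fintype.card_congr (b'.indexEquiv b)

/-- Where the localised sections of a finitely presented module are free, it is free nearby. -/
theorem exists_isFreeOfRankNear_of_free {X : Scheme.{u}} (F : X.Modules) (hFP : CohB1.IsFP F)
    {U : X.Opens} (hU : IsAffineOpen U) (x : U)
    [Module.Free (Localization.AtPrime (hU.primeIdealOf x).asIdeal)
      (LocalizedModule (hU.primeIdealOf x).asIdeal.primeCompl Γ(F, U))] :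
    ∃ r, FlatFun.IsFreeOfRankNear F r x.1 := by
  have hF : Coh.IsQCoh F := H29Fitt.isQCoh_of_isFP F hFP
  haveI := FinLocFree.finitePresentation_sections F hFP hU
  obtain ⟨d, r, m, hd, hs, hi⟩ := FinLocFree.exists_basis_upTo (M := Γ(F, U))
    (hU.primeIdealOf x).asIdeal
  haveI := FinLocFree.isIso_basicHom F hF hU d m hs hi
  refine ⟨r, X.basicOpen d, ?_, ⟨(asIso (H29Fitt.basicHom F d m)).symm⟩⟩
  by_contra hn
  exact hd ((H29Blow.mem_primeIdealOf_iff hU x d).mpr fun hu =>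
    hn ((X.mem_basicOpen d x.1 x.2).mpr hu))

/-- Where the sections of a finitely presented module are flat, it is free. -/
theorem exists_isFreeOfRankNear {X : Scheme.{u}} (F : X.Modules) (hFP : CohB1.IsFP F) {U : X.Opens}
    (hU : IsAffineOpen U) (hfl : Module.Flat Γ(X, U) Γ(F, U)) {x : X} (hxU : x ∈ U) :
    ∃ r, FlatFun.IsFreeOfRankNear F r x := by
  haveI := FinLocFree.finitePresentation_sections F hFP hU
  haveI : Module.Free (Localization.AtPrime (hU.primeIdealOf ⟨x, hxU⟩).asIdeal)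
      (LocalizedModule (hU.primeIdealOf ⟨x, hxU⟩).asIdeal.primeCompl Γ(F, U)) :=
    Module.free_of_flat_of_isLocalRing
  exact exists_isFreeOfRankNear_of_free F hFP hU ⟨x, hxU⟩

/-- A finitely presented module with free stalk is free nearby. -/
theorem isFreeOfRankNear_of_stalkFree_of_isFP {X : Scheme.{u}} (F : X.Modules) (hFP : CohB1.IsFP F)
    {p : ℕ} {x : X} (h : StalkFree F p x) : FlatFun.IsFreeOfRankNear F p x := by
  have hF : Coh.IsQCoh F := H29Fitt.isQCoh_of_isFP F hFP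
  obtain ⟨_, ⟨U, hU, rfl⟩, hxU, -⟩ :=
    X.isBasis_affineOpens.exists_subset_of_mem_open (Set.mem_univ x) isOpen_univ
  let P := (hU.primeIdealOf ⟨x, hxU⟩).asIdeal
  obtain ⟨b⟩ := id h
  letI := TopCat.Presheaf.algebra_section_stalk X.presheaf (⟨x, hxU⟩ : U)
  letI := Module.compHom (F.presheaf.stalk x) (algebraMap Γ(X, U) (X.presheaf.stalk x))
  haveI : IsScalarTower Γ(X, U) (X.presheaf.stalk x) (F.presheaf.stalk x) :=
    .of_algebraMap_smul fun _ _ => rfl
  haveI : IsLocalization P.primeCompl (X.presheaf.stalk x) := hU.isLocalization_stalk ⟨x, hxU⟩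
  haveI : IsLocalizedModule P.primeCompl (germLin F (⟨x, hxU⟩ : U)) :=
    isLocalizedModule_germLin F hF hU ⟨x, hxU⟩
  haveI := FinLocFree.finitePresentation_sections F hFP hU
  haveI := Module.Free.of_basis b
  haveI : Module.Flat Γ(X, U) (F.presheaf.stalk x) := by
    haveI : Module.Flat Γ(X, U) (X.presheaf.stalk x) :=
      IsLocalization.flat (X.presheaf.stalk x) P.primeCompl
    exact Module.Flat.trans Γ(X, U) (X.presheaf.stalk x) _
  haveI : Module.Flat Γ(X, U) (LocalizedModule P.primeCompl Γ(F, U)) :=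
    Module.Flat.of_linearEquiv (IsLocalizedModule.iso P.primeCompl (germLin F (⟨x, hxU⟩ : U)))
  haveI : Module.Flat (Localization.AtPrime P) (LocalizedModule P.primeCompl Γ(F, U)) :=
    (Module.flat_iff_of_isLocalization (Localization.AtPrime P) P.primeCompl
      (M := LocalizedModule P.primeCompl Γ(F, U))).2 inferInstance
  haveI : Module.Free (Localization.AtPrime P) (LocalizedModule P.primeCompl Γ(F, U)) :=
    Module.free_of_flat_of_isLocalRing
  obtain ⟨r, hr⟩ := exists_isFreeOfRankNear_of_free F hFP hU ⟨x, hxU⟩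
  obtain rfl := stalkFree_unique h (stalkFree_of_isFreeOfRankNear F hF hr)
  exact hr

variable {X S : Scheme.{u}} (f : X ⟶ S) (F : X.Modules) (hF : Coh.IsQCoh F) (hFP : CohB1.IsFP F)
  {I : Type u} [SmallCategory I] [IsCofiltered I] (D : I ⥤ Over S) (c : Cone D)
  (hc : IsLimit ((Over.forget S).mapCone c)) (hD : ∀ i, IsAffine (D.obj i).left) (p : ℕ)

/-- Flatness of the sections of a base change over an affine open. -/
theorem flat_sections_ET_iff (T : Over S) {U : X.Opens} (hU : IsAffineOpen U)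
    {W : (PicF.XT f T).Opens} (hW : IsAffineOpen W) (hWU : W ≤ pullback.fst f T.hom ⁻¹ᵁ U)
    (hF : Coh.IsQCoh F) :
    letI := ((pullback.fst f T.hom).appLE U W hWU).hom.toAlgebra
    Module.Flat Γ(PicF.XT f T, W) (Γ(PicF.XT f T, W) ⊗[Γ(X, U)] Γ(F, U)) ↔
      Module.Flat Γ(PicF.XT f T, W) Γ(FGA.ET f F T, W) := by
  letI := ((pullback.fst f T.hom).appLE U W hWU).hom.toAlgebra
  letI := Module.compHom Γ(FGA.ET f F T, W) ((pullback.fst f T.hom).appLE U W hWU).hom
  haveI : IsScalarTower Γ(X, U) Γ(PicF.XT f T, W) Γ(FGA.ET f F T, W) :=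
    .of_algebraMap_smul fun _ _ => rfl
  exact Module.Flat.equiv_iff
    (PullSections.isBaseChange_pullLin (pullback.fst f T.hom) F hWU hF hU hW).equiv

include hF hFP hc hD in
theorem exists_stage_isFreeOfRankNear (x : PicF.XT f c.pt)
    (hx : FlatFun.IsFreeOfRankNear (FGA.ET f F c.pt) p x) :
    ∃ j, FlatFun.IsFreeOfRankNear (FGA.ET f F (D.obj j)) p (PicF.XTmap f (c.π.app j) x) := by
  obtain ⟨i⟩ := IsCofiltered.nonempty (C := I)
  haveI := isAffineHom_xtDiag f D hD
  obtain ⟨O, hxO, ⟨eO⟩⟩ := id hx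
  have hFc : Coh.IsQCoh (FGA.ET f F c.pt) := H29Fitt.isQCoh_pullback _ F hF
  obtain ⟨_, ⟨U, hU, rfl⟩, hxU, -⟩ := X.isBasis_affineOpens.exists_subset_of_mem_open
    (Set.mem_univ (pullback.fst f c.pt.hom x)) isOpen_univ
  have hxU' : pullback.fst f (D.obj i).hom (PicF.XTmap f (c.π.app i) x) ∈ U := by
    have h1 : PicF.XTmap f (c.π.app i) ≫ pullback.fst f (D.obj i).hom = pullback.fst f c.pt.hom :=
      FGA.XTmap_fst f (c.π.app i)
    rw [← Scheme.Hom.comp_apply, h1]
    exact hxU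
  obtain ⟨_, ⟨W, hW, rfl⟩, hxW, hWU⟩ := ((xtDiag f D).obj i).isBasis_affineOpens.exists_subset_of_mem_open
    hxU' (pullback.fst f (D.obj i).hom ⁻¹ᵁ U).isOpen
  haveI : IsAffineHom ((xtCone f D c).π.app i) := isAffineHom_π_app _ _ (isLimitXtCone f D c hc) i
  have hWT : IsAffineOpen ((xtCone f D c).π.app i ⁻¹ᵁ W) := hW.preimage _
  obtain ⟨s, hsO, hxs⟩ := hWT.exists_basicOpen_le (V := O) ⟨x, hxO⟩ hxW
  obtain ⟨j, φ, t, ht⟩ := H7Lim.exists_secπ_eq (isLimitXtCone f D c hc) hW s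
  let Wj : ((xtDiag f D).obj j).Opens := ((xtDiag f D).obj j).basicOpen t
  have hWj : IsAffineOpen Wj := (hW.preimage ((xtDiag f D).map φ)).basicOpen t
  have hWjU : Wj ≤ pullback.fst f (D.obj j).hom ⁻¹ᵁ U :=
    (((xtDiag f D).obj j).basicOpen_le t).trans (map_preimage_le_fst f D hWU φ)
  haveI : IsAffineHom ((xtCone f D c).π.app j) := isAffineHom_π_app _ _ (isLimitXtCone f D c hc) j
  have hWjT : IsAffineOpen ((xtCone f D c).π.app j ⁻¹ᵁ Wj) := hWj.preimage _
  have hpre : (xtCone f D c).π.app j ⁻¹ᵁ Wj = (xtCone f D c).pt.basicOpen s := by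
    rw [← ht]
    ext y
    refine Iff.trans ⟨fun hy => ⟨?_, hy⟩, fun h => h.2⟩
      (mem_basicOpen_appLE ((xtCone f D c).π.app j) _ t y).symm
    have h1 : (xtDiag f D).map φ ((xtCone f D c).π.app j y) ∈ W :=
      ((xtDiag f D).obj j).basicOpen_le t hy
    rw [← Scheme.Hom.comp_apply, (xtCone f D c).w φ] at h1
    exact h1
  have hxWj : x ∈ (xtCone f D c).π.app j ⁻¹ᵁ Wj := hpre.symm ▸ hxs
  -- the module is flat over the chart in the limit
  letI := fun k : Over j => chartAlgebra f D hWjU k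
  letI := limitAlgebra f D c hWjU
  have hfl : Module.Flat Γ((xtCone f D c).pt, (xtCone f D c).π.app j ⁻¹ᵁ Wj)
      (Γ((xtCone f D c).pt, (xtCone f D c).π.app j ⁻¹ᵁ Wj) ⊗[Γ(X, U)] Γ(F, U)) := by
    refine (flat_sections_ET_iff f F c.pt hU hWjT (π_preimage_le_fst f D c hWjU) hF).2 ?_
    refine (FinLocFree.flat_sections_iff (FGA.ET f F c.pt) hFc hWjT).2 fun y => ?_
    obtain ⟨b⟩ := stalkFree_of_isFreeOfRankNear _ hFc (x := y.1) (p := p)
      ⟨O, hsO (hpre ▸ y.2), ⟨eO⟩⟩
    haveI := Module.Free.of_basis b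
    exact Module.Flat.of_free
  haveI : Module.FinitePresentation Γ(X, U) Γ(F, U) := FinLocFree.finitePresentation_sections F hFP hU
  obtain ⟨k, hk⟩ := exists_flat_stage_module (A₀ := Γ(X, U)) (B₀ := Γ(X, U)) Γ(F, U)
    (chartSystem f D c hWjU hc hD hWj).approx hfl
  have hWk : IsAffineOpen ((xtDiag f D).map k.hom ⁻¹ᵁ Wj) :=
    @IsAffineOpen.preimage _ _ _ hWj ((xtDiag f D).map k.hom) (isAffineHom_xtDiag f D hD _ _ _)
  have hxk : PicF.XTmap f (c.π.app k.left) x ∈ (xtDiag f D).map k.hom ⁻¹ᵁ Wj := by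
    show ((xtCone f D c).π.app k.left ≫ (xtDiag f D).map k.hom) x ∈ Wj
    rw [(xtCone f D c).w k.hom]
    exact hxWj
  obtain ⟨r, hr⟩ := exists_isFreeOfRankNear (FGA.ET f F (D.obj k.left))
    (H06EGA9.isFP_pullback _ hFP) hWk
    ((flat_sections_ET_iff f F (D.obj k.left) hU hWk (map_preimage_le_fst f D hWjU k.hom) hF).1 hk) hxk
  refine ⟨k.left, ?_⟩
  have h1 : StalkFree (FGA.ET f F c.pt) r x := stalkFree_iso (FGA.ETiso f F (c.π.app k.left))
    (stalkFree_pullback _ _ (stalkFree_of_isFreeOfRankNear _ (H29Fitt.isQCoh_pullback _ F hF) hr))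
  obtain rfl := stalkFree_unique (stalkFree_of_isFreeOfRankNear _ hFc hx) h1
  exact hr

variable [Smooth f] [GeometricallyIrreducible f]

include hF hFP hc hD in
/-- `H_p` is limit preserving. -/
theorem exists_stage_freeCond (hFT : CohB1.IsFT F) (h : FreeCond f F p c.pt) :
    ∃ i, FreeCond f F p (D.obj i) := by
  let E : I ⥤ Scheme.{u} := D ⋙ Over.forget S
  let d : Cone E := (Over.forget S).mapCone c
  haveI hE : ∀ i, IsAffine (E.obj i) := hD
  haveI hEh : ∀ {i j : I} (a : i ⟶ j), IsAffineHom (E.map a) := fun a => inferInstance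
  let G : ∀ i, Opens (PicF.XT f (D.obj i)) := fun i =>
    ⟨{x | FlatFun.IsFreeOfRankNear (FGA.ET f F (D.obj i)) p x}, by
      rw [isOpen_iff_forall_mem_open]
      intro x ⟨U, hxU, e⟩
      exact ⟨U, fun y hy => ⟨U, hy, e⟩, U.isOpen, hxU⟩⟩
  have hopen : ∀ i, IsOpenMap (PicF.XTproj f (D.obj i)) := fun i => by
    haveI := smooth_XTproj f (D.obj i)
    exact (PicF.XTproj f (D.obj i)).isOpenMap
  let Q : ∀ i, Opens (E.obj i) := fun i =>
    ⟨PicF.XTproj f (D.obj i) '' (G i : Set _), hopen i _ (G i).isOpen⟩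
  -- points of the images are exactly the points over which the condition holds
  have hQ : ∀ {T' : Over S} {i : I} (g : T' ⟶ D.obj i) (t' : T'.left), g.left t' ∈ Q i →
      ∃ x', PicF.XTproj f T' x' = t' ∧ FlatFun.IsGenericPtOfFibre (PicF.XTproj f T') x' ∧
        StalkFree (FGA.ET f F T') p x' := by
    intro T' i g t' ht
    obtain ⟨x₁, hx₁, hx₁t⟩ := ht
    haveI := geometricallyIrreducible_XTproj f (D.obj i)
    obtain ⟨x, hx, hgen⟩ := exists_isGenericPtOfFibre (PicF.XTproj f (D.obj i)) (g.left t')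
    have hxG : x ∈ G i := (hgen x₁ (hx₁t.trans hx.symm)).mem_open (G i).isOpen hx₁
    obtain ⟨x', hx', hgen', rfl⟩ := exists_generic_over f g t' hx hgen
    exact ⟨x', hx', hgen', stalkFree_iso (FGA.ETiso f F g)
      (stalkFree_pullback _ _ (stalkFree_of_isFreeOfRankNear _ (H29Fitt.isQCoh_pullback _ F hF) hxG))⟩
  have hmono : ∀ {i j : I} (a : j ⟶ i), E.map a ⁻¹ᵁ Q i ≤ Q j := by
    intro i j a t' ht
    obtain ⟨x', hx', -, hfree⟩ := hQ (D.map a) t' ht
    exact ⟨x', isFreeOfRankNear_of_stalkFree_of_isFP _ (H06EGA9.isFP_pullback _ hFP) hfree, hx'⟩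
  haveI : IsAffine d.pt := by
    obtain ⟨i⟩ := IsCofiltered.nonempty (C := I)
    haveI : IsAffineHom (d.π.app i) := isAffineHom_π_app E d hc i
    haveI : IsAffine (((Functor.const I).obj d.pt).obj i) := isAffine_of_isAffineHom (d.π.app i)
    exact ‹_›
  have hcov : (Set.univ : Set d.pt) ⊆ ⋃ i, ((d.π.app i ⁻¹ᵁ Q i : d.pt.Opens) : Set d.pt) := by
    intro t _
    obtain ⟨x, hx, -, hfree⟩ := h t
    obtain ⟨j, hj⟩ := exists_stage_isFreeOfRankNear f F hF hFP D c hc hD p x hfree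
    refine Set.mem_iUnion.2 ⟨j, ?_⟩
    show (c.π.app j).left t ∈ Q j
    refine ⟨_, hj, ?_⟩
    rw [← hx]
    exact congrArg (fun k => k x) (isPullback_XTmap f (c.π.app j)).w
  obtain ⟨s, hs⟩ := isCompact_univ.elim_finite_subcover _ (fun i => (d.π.app i ⁻¹ᵁ Q i).isOpen) hcov
  obtain ⟨l, hl⟩ := IsCofiltered.inf_objs_exists s
  have hltop : d.π.app l ⁻¹ᵁ Q l = ⊤ := by
    refine eq_top_iff.2 fun t _ => ?_
    obtain ⟨i, hi, hti⟩ := Set.mem_iUnion₂.1 (hs (Set.mem_univ t))
    have hw : d.π.app l ≫ E.map (hl hi).some = d.π.app i := d.w _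
    refine hmono (hl hi).some ?_
    show (d.π.app l ≫ E.map (hl hi).some) t ∈ Q i
    rw [hw]
    exact hti
  obtain ⟨k, φ, hk⟩ := exists_map_eq_top E d hc (Q l) hltop
  refine ⟨k, (freeCond_iff f F hF hFT p (D.obj k)).2 fun t => ?_⟩
  exact hQ (𝟙 _) t (hmono φ (hk.ge (Set.mem_univ t)))

end Groth.Agent.H8Props.FunDescent
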