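import Groth.Agent.H8Props.FunDescent.GenericInj
import Groth.Agent.H8Props.FinLocFree.Sheaf
import Groth.Agent.H06Mod.StalkFaithful
import Groth.Agent.H06Mod.StalkExact
import Groth.Agent.H10Coh.FinType2
import Groth.Agent.H29Blow.PointsOfAffine
import Groth.Prelude.Def_FlatFun
import Mathlib.RingTheory.Flat.FaithfullyFlat.Algebra
import Mathlib.RingTheory.LocalRing.Module

/-!
# Modules free near the generic points of the fibres of a smooth morphism
-/

set_option autoImplicit false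
set_option linter.style.haveILetI false

universe u

open CategoryTheory CategoryTheory.Limits AlgebraicGeometry TopologicalSpace TensorProduct

namespace Groth.Agent.H8Props.FunDescent

open H29Fitt H06Mod

variable {X Y : Scheme.{u}}

/-- The stalk at `x` is free with a basis of `p` elements. -/
def StalkFree (F : X.Modules) (p : ℕ) (x : X) : Prop :=
  Nonempty (Module.Basis (Fin p) (X.presheaf.stalk x) (F.presheaf.stalk x))

theorem stalkFree_of_isFreeOfRankNear (F : X.Modules) (hF : Coh.IsQCoh F) {p : ℕ} {x : X}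
    (h : FlatFun.IsFreeOfRankNear F p x) : StalkFree F p x := by
  obtain ⟨U, hxU, ⟨e⟩⟩ := h
  obtain ⟨_, ⟨V, hV, rfl⟩, hxV, hle⟩ := X.isBasis_affineOpens.exists_subset_of_mem_open hxU U.isOpen
  obtain ⟨b⟩ := FinLocFree.exists_basis_of_chart F e (V := V) hle
  letI := TopCat.Presheaf.algebra_section_stalk X.presheaf (⟨x, hxV⟩ : V)
  letI := Module.compHom (F.presheaf.stalk x) (algebraMap Γ(X, V) (X.presheaf.stalk x))
  haveI : IsScalarTower Γ(X, V) (X.presheaf.stalk x) (F.presheaf.stalk x) :=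
    .of_algebraMap_smul fun _ _ => rfl
  haveI : IsLocalization (hV.primeIdealOf ⟨x, hxV⟩).asIdeal.primeCompl (X.presheaf.stalk x) :=
    hV.isLocalization_stalk ⟨x, hxV⟩
  haveI : IsLocalizedModule (hV.primeIdealOf ⟨x, hxV⟩).asIdeal.primeCompl (germLin F (⟨x, hxV⟩ : V)) :=
    isLocalizedModule_germLin F hF hV ⟨x, hxV⟩
  exact ⟨b.ofIsLocalizedModule (X.presheaf.stalk x) (hV.primeIdealOf ⟨x, hxV⟩).asIdeal.primeCompl
    (germLin F (⟨x, hxV⟩ : V))⟩

theorem stalkFree_iso {M N : X.Modules} (φ : M ≅ N) {p : ℕ} {x : X} (h : StalkFree M p x) :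
    StalkFree N p x := by
  obtain ⟨b⟩ := h
  haveI : IsIso φ.hom.mapPresheaf := inferInstanceAs (IsIso ((Scheme.Modules.toPresheaf X).map φ.hom))
  exact ⟨b.map (LinearEquiv.ofBijective (stalkLin φ.hom x)
    (ConcreteCategory.bijective_of_isIso ((TopCat.Presheaf.stalkFunctor Ab.{u} x).map φ.hom.mapPresheaf)))⟩

attribute [local instance] stalkAlgebra

theorem stalkFree_pullback (g : X ⟶ Y) (G : Y.Modules) {p : ℕ} {x : X} (h : StalkFree G p (g x)) :
    StalkFree ((Scheme.Modules.pullback g).obj G) p x := by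
  obtain ⟨b⟩ := h
  exact ⟨(b.baseChange (X.presheaf.stalk x)).map (pullStalkEquiv g G x)⟩

theorem finite_stalk_of_isFT (F : X.Modules) (hF : Coh.IsQCoh F) (hFT : CohB1.IsFT F) (x : X) :
    Module.Finite (X.presheaf.stalk x) (F.presheaf.stalk x) := by
  obtain ⟨_, ⟨V, hV, rfl⟩, hxV, -⟩ :=
    X.isBasis_affineOpens.exists_subset_of_mem_open (Set.mem_univ x) isOpen_univ
  letI := TopCat.Presheaf.algebra_section_stalk X.presheaf (⟨x, hxV⟩ : V)
  letI := Module.compHom (F.presheaf.stalk x) (algebraMap Γ(X, V) (X.presheaf.stalk x))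
  haveI : IsScalarTower Γ(X, V) (X.presheaf.stalk x) (F.presheaf.stalk x) :=
    .of_algebraMap_smul fun _ _ => rfl
  haveI : IsLocalization (hV.primeIdealOf ⟨x, hxV⟩).asIdeal.primeCompl (X.presheaf.stalk x) :=
    hV.isLocalization_stalk ⟨x, hxV⟩
  haveI : IsLocalizedModule (hV.primeIdealOf ⟨x, hxV⟩).asIdeal.primeCompl (germLin F (⟨x, hxV⟩ : V)) :=
    isLocalizedModule_germLin F hF hV ⟨x, hxV⟩
  haveI : Module.Finite Γ(X, V) Γ(F, V) := @H10Coh.finite_sections _ F hF hFT _ hV
  exact Module.Finite.of_isLocalizedModule (hV.primeIdealOf ⟨x, hxV⟩).asIdeal.primeCompl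
    (germLin F (⟨x, hxV⟩ : V))

/-- Freeness of finite stalks descends along flat morphisms. -/
theorem stalkFree_of_pullback (g : X ⟶ Y) [Flat g] (G : Y.Modules) (hG : Coh.IsQCoh G)
    (hGT : CohB1.IsFT G) {p : ℕ} {x : X}
    (h : StalkFree ((Scheme.Modules.pullback g).obj G) p x) : StalkFree G p (g x) := by
  obtain ⟨b⟩ := h
  haveI := faithfullyFlat_stalk g x
  haveI := finite_stalk_of_isFT G hG hGT (g x)
  let b' := b.map (pullStalkEquiv g G x).symm
  haveI : Module.Flat (X.presheaf.stalk x)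
      (X.presheaf.stalk x ⊗[Y.presheaf.stalk (g.base x)] G.presheaf.stalk (g.base x)) :=
    haveI := Module.Free.of_basis b'
    inferInstance
  haveI : Module.Flat (Y.presheaf.stalk (g.base x)) (G.presheaf.stalk (g.base x)) :=
    Module.Flat.of_flat_tensorProduct (Y.presheaf.stalk (g.base x)) (G.presheaf.stalk (g.base x))
      (X.presheaf.stalk x)
  haveI : Module.Free (Y.presheaf.stalk (g.base x)) (G.presheaf.stalk (g.base x)) :=
    Module.free_of_flat_of_isLocalRing
  have hr : Module.finrank (Y.presheaf.stalk (g.base x)) (G.presheaf.stalk (g.base x)) = p := by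
    rw [← Module.finrank_baseChange (R := X.presheaf.stalk x), Module.finrank_eq_card_basis b',
      Fintype.card_fin]
  exact ⟨Module.finBasisOfFinrankEq _ _ hr⟩

/-- A module spanned by `p` sections on a basic open, with free stalks of rank `p` at the generic
points of all fibres of a smooth morphism, is free of rank `p` there. -/
theorem isFreeOfRankNear_of_spans {T : Scheme.{u}} (q : X ⟶ T) [Smooth q] (F : X.Modules)
    (hF : Coh.IsQCoh F) (p : ℕ)
    (H : ∀ t : T, ∃ x : X, q x = t ∧ FlatFun.IsGenericPtOfFibre q x ∧ StalkFree F p x)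
    {V : T.Opens} (hV : IsAffineOpen V) {U : X.Opens} (hU : IsAffineOpen U) (hUV' : U ≤ q ⁻¹ᵁ V)
    (d : Γ(X, U)) (m : Fin p → Γ(F, U)) (hspan : SpansUpTo (Submonoid.powers d) m)
    {x : X} (hx : x ∈ X.basicOpen d) : FlatFun.IsFreeOfRankNear F p x := by
  classical
  have hdU : ∀ y : U, d ∉ (hU.primeIdealOf y).asIdeal ↔ y.1 ∈ X.basicOpen d := fun y => by
    rw [H29Blow.mem_primeIdealOf_iff hU y d, not_not]
    exact (X.mem_basicOpen d y.1 y.2).symm
  -- relations vanish on the basic open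
  letI := (q.appLE V U hUV').hom.toAlgebra
  haveI : Algebra.Smooth Γ(T, V) Γ(X, U) := q.smooth_appLE hV hU hUV'
  have hindep : FinLocFree.IndepUpTo (Submonoid.powers d) m := by
    intro c hc j
    by_contra hne
    push Not at hne
    let J : Ideal Γ(X, U) := LinearMap.ker (LinearMap.toSpanSingleton Γ(X, U) Γ(X, U) (c j))
    obtain ⟨Q, hQ, hJQ, hdisj⟩ := Ideal.exists_le_prime_disjoint J (Submonoid.powers d)
      (Set.disjoint_left.2 fun z hz hz' => hne z hz' hz)
    have hdQ : d ∉ Q := fun h => Set.disjoint_left.1 hdisj h (Submonoid.mem_powers d)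
    obtain ⟨y, hy⟩ := H29Blow.exists_primeIdealOf_eq hU (⟨Q, hQ⟩ : PrimeSpectrum Γ(X, U))
    have hyQ : (hU.primeIdealOf y).asIdeal = Q := congrArg PrimeSpectrum.asIdeal hy
    obtain ⟨ξ, hξt, hξgen, ⟨bξ⟩⟩ := H (q y.1)
    have hξy : ξ ⤳ y.1 := hξgen y.1 hξt.symm
    have hξd : ξ ∈ X.basicOpen d := hξy.mem_open (X.basicOpen d).isOpen ((hdU y).1 (hyQ ▸ hdQ))
    have hξU : ξ ∈ U := X.basicOpen_le d hξd
    let Q' := (hU.primeIdealOf ⟨ξ, hξU⟩).asIdeal
    have hdQ' : d ∉ Q' := (hdU ⟨ξ, hξU⟩).2 hξd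
    -- the coefficient vanishes at the generic point
    have hzero : ∃ h ∉ Q', h * c j = 0 := by
      letI := TopCat.Presheaf.algebra_section_stalk X.presheaf (⟨ξ, hξU⟩ : U)
      letI := Module.compHom (F.presheaf.stalk ξ) (algebraMap Γ(X, U) (X.presheaf.stalk ξ))
      haveI : IsScalarTower Γ(X, U) (X.presheaf.stalk ξ) (F.presheaf.stalk ξ) :=
        .of_algebraMap_smul fun _ _ => rfl
      haveI : IsLocalization Q'.primeCompl (X.presheaf.stalk ξ) := hU.isLocalization_stalk ⟨ξ, hξU⟩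
      haveI : IsLocalizedModule Q'.primeCompl (germLin F (⟨ξ, hξU⟩ : U)) :=
        isLocalizedModule_germLin F hF hU ⟨ξ, hξU⟩
      let G := germLin F (⟨ξ, hξU⟩ : U)
      let L : (Fin p → X.presheaf.stalk ξ) →ₗ[X.presheaf.stalk ξ] F.presheaf.stalk ξ :=
        Fintype.linearCombination (X.presheaf.stalk ξ) fun j => G (m j)
      have hL : Function.Surjective L := fun v => by
        obtain ⟨⟨v', ⟨s, hs'⟩⟩, hv⟩ := IsLocalizedModule.surj Q'.primeCompl G v
        obtain ⟨_, ⟨k, rfl⟩, hk⟩ := hspan v'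
        obtain ⟨a, ha⟩ := (Submodule.mem_span_range_iff_exists_fun Γ(X, U)).1 hk
        have hu : IsUnit (algebraMap Γ(X, U) (X.presheaf.stalk ξ) (d ^ k * s)) :=
          IsLocalization.map_units (M := Q'.primeCompl) _
            ⟨d ^ k * s, mul_mem (pow_mem (show d ∈ Q'.primeCompl from hdQ') k) hs'⟩
        refine ⟨(↑hu.unit⁻¹ : X.presheaf.stalk ξ) • fun j => algebraMap _ _ (a j), ?_⟩
        rw [map_smul]
        have : L (fun j => algebraMap _ _ (a j)) = algebraMap _ (X.presheaf.stalk ξ) (d ^ k * s) • v := by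
          rw [Fintype.linearCombination_apply, algebraMap_smul, mul_smul,
            show s • v = G v' from hv, ← map_smul, ← ha, map_sum]
          exact Finset.sum_congr rfl fun j _ => by rw [algebraMap_smul, map_smul]
        rw [this, smul_smul, IsUnit.val_inv_mul, one_smul]
      have hinj : Function.Injective L := by
        let e : F.presheaf.stalk ξ ≃ₗ[X.presheaf.stalk ξ] (Fin p → X.presheaf.stalk ξ) := bξ.equivFun
        have := OrzechProperty.injective_of_surjective_endomorphism (e.toLinearMap.comp L)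
          (e.surjective.comp hL)
        exact fun a a' h => this (congrArg e h)
      have h0 : L (fun j => algebraMap _ _ (c j)) = 0 := by
        rw [Fintype.linearCombination_apply]
        refine Eq.trans (Finset.sum_congr rfl fun j _ => ?_) ((map_sum G _ _).symm.trans
          ((congrArg G hc).trans (map_zero G)))
        rw [algebraMap_smul, map_smul]
      obtain ⟨⟨h, hh⟩, hhc⟩ := (IsLocalization.map_eq_zero_iff Q'.primeCompl (X.presheaf.stalk ξ) (c j)).1
        (congrFun (hinj (h0.trans (map_zero L).symm)) j)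
      exact ⟨h, hh, hhc⟩
    obtain ⟨h, hh, hhc⟩ := hzero
    have hcomap : ∀ z : U, (hU.primeIdealOf z).asIdeal.comap (algebraMap Γ(T, V) Γ(X, U)) =
        (hV.primeIdealOf ⟨q z.1, hUV' z.2⟩).asIdeal := fun z => by
      ext r
      rw [Ideal.mem_comap, H29Blow.mem_primeIdealOf_iff hU z, H29Blow.mem_primeIdealOf_iff hV _]
      refine not_congr ?_
      show IsUnit (X.presheaf.germ U z.1 z.2 (q.appLE V U hUV' r)) ↔ _
      rw [← X.mem_basicOpen (q.appLE V U hUV' r) z.1 z.2, ← T.mem_basicOpen r _ (hUV' z.2),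
        Scheme.Hom.appLE, CommRingCat.comp_apply, Scheme.basicOpen_res, ← Scheme.preimage_basicOpen]
      exact ⟨fun h => h.2, fun h => ⟨z.2, h⟩⟩
    have hsp : ∀ z : U, ξ ⤳ z.1 → Q' ≤ (hU.primeIdealOf z).asIdeal := fun z hz a ha => by
      rw [H29Blow.mem_primeIdealOf_iff hU z a, ← X.mem_basicOpen a z.1 z.2]
      intro hza
      exact (H29Blow.mem_primeIdealOf_iff hU ⟨ξ, hξU⟩ a).1 ha
        ((X.mem_basicOpen a ξ hξU).1 (hz.mem_open (X.basicOpen a).isOpen hza))
    have hgen : ∀ P' : Ideal Γ(X, U), P'.IsPrime → P' ≤ Q →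
        P'.comap (algebraMap Γ(T, V) Γ(X, U)) = Q.comap (algebraMap Γ(T, V) Γ(X, U)) → Q' ≤ P' := by
      intro P' hP' _ hcom
      obtain ⟨z, hz⟩ := H29Blow.exists_primeIdealOf_eq hU (⟨P', hP'⟩ : PrimeSpectrum Γ(X, U))
      have hzP : (hU.primeIdealOf z).asIdeal = P' := congrArg PrimeSpectrum.asIdeal hz
      refine hzP ▸ hsp z (hξgen z.1 ?_)
      rw [← hzP, ← hyQ, hcomap, hcomap] at hcom
      have := congrArg hV.fromSpec (PrimeSpectrum.ext hcom)
      rw [hV.fromSpec_primeIdealOf, hV.fromSpec_primeIdealOf] at this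
      exact this.trans hξt.symm
    have hover : Q'.comap (algebraMap Γ(T, V) Γ(X, U)) = Q.comap (algebraMap Γ(T, V) Γ(X, U)) := by
      rw [← hyQ, hcomap, hcomap]
      exact congrArg (fun z => (hV.primeIdealOf z).asIdeal) (Subtype.ext hξt)
    obtain ⟨t, ht, htc⟩ := exists_notMem_mul_eq_zero Q Q' (hyQ ▸ hsp y hξy) hover hgen h (c j) hh hhc
    exact ht (hJQ htc)
  haveI := FinLocFree.isIso_basicHom F hF hU d m hspan hindep
  exact ⟨X.basicOpen d, hx, ⟨(asIso (H29Fitt.basicHom F d m)).symm⟩⟩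

/-- A module of finite type with free stalks of rank `p` at the generic points of all fibres of a
smooth morphism is free of rank `p` near each point where `p` sections generate. -/
theorem isFreeOfRankNear_of_not_mem_support {T : Scheme.{u}} (q : X ⟶ T) [Smooth q] (F : X.Modules)
    (hF : Coh.IsQCoh F) (hFT : CohB1.IsFT F) (p : ℕ)
    (H : ∀ t : T, ∃ x : X, q x = t ∧ FlatFun.IsGenericPtOfFibre q x ∧ StalkFree F p x)
    {x : X} (hx : x ∉ (Fitt.sheafIdeal F p).support) : FlatFun.IsFreeOfRankNear F p x := by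
  obtain ⟨_, ⟨V, hV : IsAffineOpen V, rfl⟩, hxV, -⟩ :=
    T.isBasis_affineOpens.exists_subset_of_mem_open (Set.mem_univ (q x)) isOpen_univ
  obtain ⟨_, ⟨U, hU : IsAffineOpen U, rfl⟩, hxU, hUV⟩ :=
    X.isBasis_affineOpens.exists_subset_of_mem_open hxV (q ⁻¹ᵁ V).isOpen
  haveI : Module.Finite Γ(X, U) Γ(F, U) := @H10Coh.finite_sections _ F hF hFT _ hU
  rw [mem_support_iff F hF hFT p hU ⟨x, hxU⟩] at hx
  obtain ⟨d, hd, m, hm⟩ := exists_spansUpTo_powers hx
  refine isFreeOfRankNear_of_spans q F hF p H hV hU hUV d m hm ((X.mem_basicOpen d x hxU).2 ?_)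
  by_contra hu
  exact hd ((H29Blow.mem_primeIdealOf_iff hU ⟨x, hxU⟩ d).2 hu)

/-- A module of finite type with free stalks of rank `p` at the generic points of all fibres of a
smooth morphism is free of rank `p` near each of them. -/
theorem isFreeOfRankNear_of_stalkFree {T : Scheme.{u}} (q : X ⟶ T) [Smooth q] (F : X.Modules)
    (hF : Coh.IsQCoh F) (hFT : CohB1.IsFT F) (p : ℕ)
    (H : ∀ t : T, ∃ x : X, q x = t ∧ FlatFun.IsGenericPtOfFibre q x ∧ StalkFree F p x)
    {x : X} (hx : StalkFree F p x) : FlatFun.IsFreeOfRankNear F p x := by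
  classical
  obtain ⟨_, ⟨V, hV : IsAffineOpen V, rfl⟩, hxV, -⟩ :=
    T.isBasis_affineOpens.exists_subset_of_mem_open (Set.mem_univ (q x)) isOpen_univ
  obtain ⟨_, ⟨U, hU : IsAffineOpen U, rfl⟩, hxU, hUV⟩ :=
    X.isBasis_affineOpens.exists_subset_of_mem_open hxV (q ⁻¹ᵁ V).isOpen
  have hUV' : U ≤ q ⁻¹ᵁ V := hUV
  haveI : Module.Finite Γ(X, U) Γ(F, U) := @H10Coh.finite_sections _ F hF hFT _ hU
  let P := (hU.primeIdealOf ⟨x, hxU⟩).asIdeal
  -- lift a basis of the stalk at `x`
  obtain ⟨b⟩ := hx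
  letI := TopCat.Presheaf.algebra_section_stalk X.presheaf (⟨x, hxU⟩ : U)
  letI := Module.compHom (F.presheaf.stalk x) (algebraMap Γ(X, U) (X.presheaf.stalk x))
  haveI : IsScalarTower Γ(X, U) (X.presheaf.stalk x) (F.presheaf.stalk x) :=
    .of_algebraMap_smul fun _ _ => rfl
  haveI : IsLocalization P.primeCompl (X.presheaf.stalk x) := hU.isLocalization_stalk ⟨x, hxU⟩
  haveI : IsLocalizedModule P.primeCompl (germLin F (⟨x, hxU⟩ : U)) :=
    isLocalizedModule_germLin F hF hU ⟨x, hxU⟩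
  choose ms hms using fun j => IsLocalizedModule.surj P.primeCompl (germLin F (⟨x, hxU⟩ : U)) (b j)
  let m : Fin p → Γ(F, U) := fun j => (ms j).1
  have hspanx : Submodule.span (X.presheaf.stalk x)
      (Set.range fun j => germLin F (⟨x, hxU⟩ : U) (m j)) = ⊤ := by
    refine eq_top_iff.2 (b.span_eq.symm.le.trans (Submodule.span_le.2 ?_))
    rintro _ ⟨j, rfl⟩
    have hu := IsLocalization.map_units (X.presheaf.stalk x) (ms j).2
    rw [SetLike.mem_coe, show b j = (↑hu.unit⁻¹ : X.presheaf.stalk x) • germLin F (⟨x, hxU⟩ : U) (m j) by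
      rw [← hms j, Submonoid.smul_def, ← algebraMap_smul (X.presheaf.stalk x) ((ms j).2 : Γ(X, U)),
        smul_smul, IsUnit.val_inv_mul, one_smul]]
    exact Submodule.smul_mem _ _ (Submodule.subset_span ⟨j, rfl⟩)
  have hloc : ∀ v : Γ(F, U), ∃ s ∈ P.primeCompl, s • v ∈ Submodule.span Γ(X, U) (Set.range m) := by
    intro v
    obtain ⟨c, hc⟩ := (Submodule.mem_span_range_iff_exists_fun (X.presheaf.stalk x)).1
      (hspanx.symm ▸ Submodule.mem_top (x := germLin F (⟨x, hxU⟩ : U) v))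
    obtain ⟨s, hs⟩ := IsLocalization.exist_integer_multiples_of_finite P.primeCompl c
    choose a ha using fun j => hs j
    have e : germLin F (⟨x, hxU⟩ : U) ((s : Γ(X, U)) • v) = germLin F (⟨x, hxU⟩ : U) (∑ j, a j • m j) := by
      rw [map_smul, map_sum, ← hc, Finset.smul_sum]
      refine Finset.sum_congr rfl fun j _ => ?_
      rw [map_smul, ← algebraMap_smul (X.presheaf.stalk x) (a j), ha j, smul_assoc]
    obtain ⟨⟨t, ht⟩, hts⟩ := (IsLocalizedModule.eq_iff_exists P.primeCompl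
      (germLin F (⟨x, hxU⟩ : U))).1 e
    refine ⟨t * s, mul_mem ht s.2, ?_⟩
    rw [mul_smul, show t • ((s : Γ(X, U)) • v) = t • ∑ j, a j • m j from hts]
    exact Submodule.smul_mem _ _ (Submodule.sum_mem _ fun j _ =>
      Submodule.smul_mem _ _ (Submodule.subset_span ⟨j, rfl⟩))
  obtain ⟨n, g, hg⟩ := Module.Finite.exists_fin (R := Γ(X, U)) (M := Γ(F, U))
  choose s hs hsm using fun i => hloc (g i)
  let d := ∏ i, s i
  have hd : d ∈ P.primeCompl := prod_mem fun i _ => hs i
  have hspan : SpansUpTo (Submonoid.powers d) m := fun v => by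
    refine ⟨d, Submonoid.mem_powers d, ?_⟩
    have hle : Submodule.span Γ(X, U) (Set.range g) ≤
        (Submodule.span Γ(X, U) (Set.range m)).comap (LinearMap.lsmul Γ(X, U) Γ(F, U) d) := by
      refine Submodule.span_le.2 ?_
      rintro _ ⟨i, rfl⟩
      show d • g i ∈ Submodule.span Γ(X, U) (Set.range m)
      rw [show d = (∏ i' ∈ Finset.univ.erase i, s i') * s i from
        (Finset.prod_erase_mul _ _ (Finset.mem_univ i)).symm, mul_smul]
      exact Submodule.smul_mem _ _ (hsm i)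
    exact hle (hg ▸ Submodule.mem_top)
  refine isFreeOfRankNear_of_spans q F hF p H hV hU hUV' d m hspan ((X.mem_basicOpen d x hxU).2 ?_)
  by_contra hu
  exact hd ((H29Blow.mem_primeIdealOf_iff hU ⟨x, hxU⟩ d).2 hu)

end Groth.Agent.H8Props.FunDescent
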