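import Groth.Agent.H8Props.FunDescent.Limit
import Groth.Agent.H8Props.RelFP.PullSections
import Groth.Agent.H8Props.FlatLocus.Sections
import Groth.Agent.H06EGA8.DescendSmooth
import Groth.Agent.H06EGA11.Colimit
import Groth.Agent.H06EGA9.FlatConstructible
import Groth.Agent.H06EGA9.FlatFibreBC
import Mathlib.AlgebraicGeometry.Morphisms.Flat

/-!
# Flatness of a module descends to a stage; limit preservation of `F_flat`
-/

set_option autoImplicit false
set_option linter.style.haveILetI false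

universe u

open CategoryTheory Limits AlgebraicGeometry TopologicalSpace Opposite TensorProduct

namespace Groth.Agent.H8Props.FunDescent

section Algebra

open H06EGA11

attribute [local instance] Algebra.TensorProduct.rightAlgebra

theorem exists_flat_stage_of_model {R₀ A₀ : Type u} [CommRing R₀] [CommRing A₀] [Algebra R₀ A₀]
    [IsNoetherianRing R₀] {P₀ : Type u} [CommRing P₀] [Algebra R₀ P₀] [Algebra.FiniteType R₀ P₀]
    {N : Type u} [AddCommGroup N] [Module R₀ N] [Module P₀ N] [IsScalarTower R₀ P₀ N]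
    [Module.Finite P₀ N] {M₀ : Type u} [AddCommGroup M₀] [Module A₀ M₀]
    (e : BC R₀ P₀ N A₀ ≃ₗ[A₀] M₀) {ι : Type u} {G : ι → Type u} [∀ i, CommRing (G i)]
    [∀ i, Algebra A₀ (G i)] [∀ i, Algebra R₀ (G i)] [∀ i, IsScalarTower R₀ A₀ (G i)]
    {A : Type u} [CommRing A] [Algebra A₀ A] [Algebra R₀ A] [IsScalarTower R₀ A₀ A]
    {g : ∀ i, G i →ₐ[A₀] A}
    (hG : H02CA.ColimTensor.Approx g G A (fun i ↦ g i) (fun φ ↦ φ.1))
    (h : Module.Flat A (A ⊗[A₀] M₀)) : ∃ i, Module.Flat (G i) (G i ⊗[A₀] M₀) := by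
  let e' : A₀ ⊗[R₀] N ≃ₗ[A₀] M₀ :=
    (isBaseChange_toBC (R₀ := R₀) (B₀ := P₀) (M₀ := N) (R' := A₀)).equiv.trans e
  let g' : ∀ i, G i →ₐ[R₀] A := fun i => (g i).restrictScalars R₀
  let res : ∀ {i j}, H02CA.ColimTensor.Hom g i j → H02CA.ColimTensor.Hom g' i j := fun φ =>
    ⟨φ.1.restrictScalars R₀, AlgHom.ext fun x => AlgHom.congr_fun φ.2 x⟩
  have hG' : H02CA.ColimTensor.Approx g' G A (fun i ↦ g' i) (fun φ ↦ φ.1) :=
    { compat := fun φ x => AlgHom.congr_fun φ.2 x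
      comp := fun _ _ _ => rfl
      dir := fun i j => by
        obtain ⟨k, ⟨a⟩, ⟨b⟩⟩ := hG.dir i j
        exact ⟨k, ⟨res a⟩, ⟨res b⟩⟩
      ne := hG.ne
      surj := hG.surj
      eq := fun i x y hxy => by
        obtain ⟨j, φ, hφ⟩ := hG.eq i x y hxy
        exact ⟨j, res φ, hφ⟩ }
  haveI : Module.Flat A (A ⊗[R₀] N) := (H06EGA11.flat_tensor_iff e').2 h
  obtain ⟨i, hi⟩ := H06EGA11.exists_index_flat_of_noetherian (B₀ := P₀) (M₀ := N) hG'
  exact ⟨i, (H06EGA11.flat_tensor_iff e').1 hi⟩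

/-- EGA IV 11.2.6.1 over an elementwise colimit. -/
theorem exists_flat_stage_module {A₀ B₀ : Type u} [CommRing A₀] [CommRing B₀] [Algebra A₀ B₀]
    [Algebra.FinitePresentation A₀ B₀] (M₀ : Type u) [AddCommGroup M₀] [Module B₀ M₀] [Module A₀ M₀]
    [IsScalarTower A₀ B₀ M₀] [Module.FinitePresentation B₀ M₀]
    {ι : Type u} {G : ι → Type u} [∀ i, CommRing (G i)] [∀ i, Algebra A₀ (G i)]
    {A : Type u} [CommRing A] [Algebra A₀ A] {g : ∀ i, G i →ₐ[A₀] A}
    (hG : H02CA.ColimTensor.Approx g G A (fun i ↦ g i) (fun φ ↦ φ.1))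
    (h : Module.Flat A (A ⊗[A₀] M₀)) : ∃ i, Module.Flat (G i) (G i ⊗[A₀] M₀) := by
  obtain ⟨n, π, hπ, hker'⟩ := Algebra.FinitePresentation.out (R := A₀) (A := B₀)
  let P := MvPolynomial (Fin n) A₀
  letI : Algebra P B₀ := π.toRingHom.toAlgebra
  haveI : IsScalarTower A₀ P B₀ := IsScalarTower.of_algebraMap_eq fun x => (π.commutes x).symm
  haveI : Module.FinitePresentation P B₀ :=
    Module.finitePresentation_of_surjective (Algebra.linearMap P B₀) hπ hker'
  letI : Module P M₀ := Module.compHom M₀ π.toRingHom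
  haveI : IsScalarTower P B₀ M₀ := IsScalarTower.of_algebraMap_smul fun _ _ => rfl
  haveI : IsScalarTower A₀ P M₀ := IsScalarTower.of_algebraMap_smul fun a x => by
    show π (algebraMap A₀ _ a) • x = a • x
    rw [π.commutes, algebraMap_smul]
  haveI : Module.FinitePresentation P M₀ := Module.FinitePresentation.trans P M₀ B₀
  obtain ⟨R₀, hR₀, N, _, _, _, _, _, σ, e, -, -⟩ := exists_model (A := A₀) (n := n) M₀
  haveI : Algebra.FiniteType ℤ R₀ := R₀.fg_iff_finiteType.1 hR₀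
  haveI : IsNoetherianRing R₀ := Algebra.FiniteType.isNoetherianRing ℤ R₀
  exact exists_flat_stage_of_model e hG h

end Algebra

section BaseChange

variable {X S X' S' : Scheme.{u}} (f : X ⟶ S) (g : S' ⟶ S) (f' : X' ⟶ S') (g' : X' ⟶ X)
  (hc : IsPullback g' f' f g)

include hc in
/-- Flatness of the base change of a module over an affine base, on sections. -/
theorem flatAt_baseChange_iff [IsAffine S] [IsAffine S'] (F : X.Modules) (hF : Coh.IsQCoh F)
    {U : X.Opens} (hU : IsAffineOpen U) :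
    letI := g.appTop.hom.toAlgebra
    letI := Module.compHom Γ(F, U) (f.appLE ⊤ U le_top).hom
    Module.Flat Γ(S', ⊤) (Γ(S', ⊤) ⊗[Γ(S, ⊤)] Γ(F, U)) ↔
      ∀ x : X', g' x ∈ U → FlatMod.IsFlatOverAt f' ((Scheme.Modules.pullback g').obj F) x := by
  let V : S.Opens := ⊤
  let V' : S'.Opens := ⊤
  have hVV' : V' ≤ g ⁻¹ᵁ V := le_rfl
  have hUV : U ≤ f ⁻¹ᵁ V := le_top
  have hV : IsAffineOpen V := isAffineOpen_top S
  have hV' : IsAffineOpen V' := isAffineOpen_top S'
  let U' : X'.Opens := g' ⁻¹ᵁ U ⊓ f' ⁻¹ᵁ V'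
  have hp : CategoryTheory.IsPushout (f.appLE V U hUV) (g.appLE V V' hVV')
      (g'.appLE U U' inf_le_left) (f'.appLE V' U' inf_le_right) :=
    (isIso_pushoutSection_iff hc hVV' hUV (UY := U') rfl).mp
      (isIso_pushoutSection_of_isAffineOpen hc hVV' hUV rfl hV hV' hU)
  have hU' : IsAffineOpen U' := by
    haveI : IsAffine _ := hV
    haveI : IsAffine _ := hV'
    haveI : IsAffine _ := hU
    exact .of_isIso (Scheme.Hom.isPullback_resLE hc hVV' hUV (UY := U') rfl).isoPullback.hom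
  have hgA : g.appLE V V' hVV' = g.appTop := g.appLE_eq_app
  rw [hgA] at hp
  letI := (f.appLE V U hUV).hom.toAlgebra
  letI := g.appTop.hom.toAlgebra
  letI := (g'.appLE U U' inf_le_left).hom.toAlgebra
  letI := (f'.appLE V' U' inf_le_right).hom.toAlgebra
  letI : Algebra Γ(S, V) Γ(X', U') :=
    ((g'.appLE U U' inf_le_left).hom.comp (f.appLE V U hUV).hom).toAlgebra
  haveI : IsScalarTower Γ(S, V) Γ(X, U) Γ(X', U') := .of_algebraMap_eq fun _ => rfl
  haveI : IsScalarTower Γ(S, V) Γ(S', V') Γ(X', U') :=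
    IsScalarTower.of_algebraMap_eq' (congrArg CommRingCat.Hom.hom hp.w)
  haveI : Algebra.IsPushout Γ(S, V) Γ(S', V') Γ(X, U) Γ(X', U') :=
    (CommRingCat.isPushout_iff_isPushout.mp hp.flip)
  letI := Module.compHom Γ(F, U) (f.appLE V U hUV).hom
  haveI : IsScalarTower Γ(S, V) Γ(X, U) Γ(F, U) := .of_algebraMap_smul fun _ _ => rfl
  let G := (Scheme.Modules.pullback g').obj F
  letI := Module.compHom Γ(G, U') (g'.appLE U U' inf_le_left).hom
  haveI : IsScalarTower Γ(X, U) Γ(X', U') Γ(G, U') := .of_algebraMap_smul fun _ _ => rfl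
  letI := Module.compHom Γ(G, U') (f'.appLE V' U' inf_le_right).hom
  haveI : IsScalarTower Γ(S', V') Γ(X', U') Γ(G, U') := .of_algebraMap_smul fun _ _ => rfl
  let e : Γ(S', V') ⊗[Γ(S, V)] Γ(F, U) ≃ₗ[Γ(S', V')] Γ(G, U') :=
    (Algebra.IsPushout.cancelBaseChange Γ(S, V) Γ(S', V') Γ(X, U) Γ(X', U') Γ(F, U)).symm.trans
      ((PullSections.isBaseChange_pullLin g' F inf_le_left hF hU hU').equiv.restrictScalars Γ(S', V'))
  refine (Module.Flat.equiv_iff e).trans ((FlatLocus.flat_sections_over_iff f' G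
    (H29Fitt.isQCoh_pullback g' F hF) hV' hU' inf_le_right).trans ?_)
  exact ⟨fun H x hx => H ⟨x, ⟨hx, trivial⟩⟩, fun H x => H x.1 x.2.1⟩

end BaseChange

variable {X S : Scheme.{u}} (f : X ⟶ S)

/-- Flatness above an affine open of a stage descends to a stage. -/
theorem exists_stage_flat_affine [QuasiCompact f] [LocallyOfFinitePresentation f] (F : X.Modules)
    (hF : Coh.IsQCoh F) (hFP : CohB1.IsFP F) {I : Type u} [SmallCategory I] [IsCofiltered I]
    (D : I ⥤ Over S) (c : Cone D) (hc : IsLimit ((Over.forget S).mapCone c))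
    (hD : ∀ i, IsAffine (D.obj i).left) {i : I} {W : ((xtDiag f D).obj i).Opens} (hW : IsAffineOpen W)
    (h : ∀ x : PicF.XT f c.pt, PicF.XTmap f (c.π.app i) x ∈ W →
      FlatMod.IsFlatOverAt (PicF.XTproj f c.pt) (FGA.ET f F c.pt) x) :
    ∃ k : Over i, ∀ x : (xtDiag f D).obj k.left, (xtDiag f D).map k.hom x ∈ W →
      FlatMod.IsFlatOverAt (PicF.XTproj f (D.obj k.left)) (FGA.ET f F (D.obj k.left)) x := by
  let E : I ⥤ Scheme.{u} := D ⋙ Over.forget S
  let d : Cone E := (Over.forget S).mapCone c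
  haveI hE : ∀ j, IsAffine (E.obj j) := hD
  haveI : IsAffine (D.obj i).left := hD i
  haveI : IsAffine c.pt.left := by
    haveI : IsAffineHom (d.π.app i) := isAffineHom_π_app E d hc i
    haveI : IsAffine (((Functor.const I).obj d.pt).obj i) := isAffine_of_isAffineHom (d.π.app i)
    exact ‹_›
  let Xi := (xtDiag f D).obj i
  let q : Xi ⟶ E.obj i := PicF.XTproj f (D.obj i)
  haveI : LocallyOfFinitePresentation q :=
    inferInstanceAs (LocallyOfFinitePresentation (pullback.snd f (D.obj i).hom))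
  haveI : IsAffine d.pt := ‹IsAffine c.pt.left›
  let Fi : Xi.Modules := FGA.ET f F (D.obj i)
  have hFi : Coh.IsQCoh Fi := H29Fitt.isQCoh_pullback _ F hF
  have hFPi : CohB1.IsFP Fi := H06EGA9.isFP_pullback _ hFP
  letI := fun k : Over i => H06EGA8.algStage E i k
  letI := H06EGA8.algPt E d i
  letI := (q.appLE ⊤ W le_top).hom.toAlgebra
  letI := Module.compHom Γ(Fi, W) (q.appLE ⊤ W le_top).hom
  haveI : IsScalarTower Γ(E.obj i, ⊤) Γ(Xi, W) Γ(Fi, W) := .of_algebraMap_smul fun _ _ => rfl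
  haveI : Algebra.FinitePresentation Γ(E.obj i, ⊤) Γ(Xi, W) :=
    q.finitePresentation_appLE (isAffineOpen_top _) hW le_top
  haveI : Module.FinitePresentation Γ(Xi, W) Γ(Fi, W) :=
    FinLocFree.finitePresentation_sections Fi hFPi hW
  have hlim : Module.Flat Γ(d.pt, ⊤) (Γ(d.pt, ⊤) ⊗[Γ(E.obj i, ⊤)] Γ(Fi, W)) :=
    (flatAt_baseChange_iff q (show d.pt ⟶ E.obj i from d.π.app i) (PicF.XTproj f c.pt) (PicF.XTmap f (c.π.app i))
      (isPullback_XTmap f (c.π.app i)) Fi hFi hW).2 fun x hx =>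
        (H06EGA9.isFlatOverAt_congr_iso _ (FGA.ETiso f F (c.π.app i)) x).2 (h x hx)
  obtain ⟨k, hk⟩ := exists_flat_stage_module (B₀ := Γ(Xi, W)) Γ(Fi, W)
    (H06EGA8.approx_sections E d i hc) hlim
  haveI : IsAffine (D.obj k.left).left := hD _
  refine ⟨k, fun x hx => ?_⟩
  exact (H06EGA9.isFlatOverAt_congr_iso _ (FGA.ETiso f F (D.map k.hom)) x).1
    ((flatAt_baseChange_iff q (E.map k.hom) (PicF.XTproj f (D.obj k.left))
      (PicF.XTmap f (D.map k.hom)) (isPullback_XTmap f (D.map k.hom)) Fi hFi hW).1 hk x hx)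

/-- `F_flat` is limit preserving. -/
theorem exists_flat_stage [QuasiCompact f] [LocallyOfFinitePresentation f] (F : X.Modules)
    (hF : Coh.IsQCoh F) (hFP : CohB1.IsFP F) {I : Type u} [SmallCategory I] [IsCofiltered I]
    (D : I ⥤ Over S) (c : Cone D) (hc : IsLimit ((Over.forget S).mapCone c))
    (hD : ∀ i, IsAffine (D.obj i).left)
    (h : FlatMod.IsFlatOver (PicF.XTproj f c.pt) (FGA.ET f F c.pt)) :
    ∃ i, FlatMod.IsFlatOver (PicF.XTproj f (D.obj i)) (FGA.ET f F (D.obj i)) := by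
  obtain ⟨i⟩ := IsCofiltered.nonempty (C := I)
  haveI := compactSpace_xtDiag f D hD i
  let Xi := (xtDiag f D).obj i
  let Q : Xi.Opens → Over i → Prop := fun W j =>
    ∀ x : (xtDiag f D).obj j.left, (xtDiag f D).map j.hom x ∈ W →
      FlatMod.IsFlatOverAt (PicF.XTproj f (D.obj j.left)) (FGA.ET f F (D.obj j.left)) x
  have stab : ∀ (W : Xi.Opens) (j l : Over i), (l ⟶ j) → Q W j → Q W l := by
    intro W j l ψ H x hx
    refine (H06EGA9.isFlatOverAt_congr_iso _ (FGA.ETiso f F (D.map ψ.left)) x).1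
      (H06EGA9.isFlatOverAt_of_isPullback (isPullback_XTmap f (D.map ψ.left)) _ x (H _ ?_))
    have hw : (xtDiag f D).map ψ.left ≫ (xtDiag f D).map j.hom = (xtDiag f D).map l.hom := by
      rw [← Functor.map_comp, Over.w ψ]
    show ((xtDiag f D).map ψ.left ≫ (xtDiag f D).map j.hom) x ∈ W
    rwa [hw]
  have one : ∀ W : Xi.Opens, IsAffineOpen W → ∃ j, Q W j := fun W hW =>
    exists_stage_flat_affine f F hF hFP D c hc hD hW fun x _ => h x
  have cov : ∀ z : Xi, ∃ V : Xi.Opens, IsAffineOpen V ∧ z ∈ V := fun z => by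
    obtain ⟨_, ⟨V, hV, rfl⟩, hzV, -⟩ :=
      Xi.isBasis_affineOpens.exists_subset_of_mem_open (Set.mem_univ z) isOpen_univ
    exact ⟨V, hV, hzV⟩
  choose V hV hzV using cov
  choose j hj using fun z => one (V z) (hV z)
  obtain ⟨s, hs⟩ := isCompact_univ.elim_finite_subcover (fun z => (V z : Set Xi)) (fun z => (V z).isOpen)
    (fun z _ => ⟨(V z : Set Xi), ⟨z, rfl⟩, hzV z⟩)
  classical
  obtain ⟨l, hl⟩ := IsCofiltered.inf_objs_exists (s.image j)
  refine ⟨l.left, fun x => ?_⟩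
  obtain ⟨z, hz, hxz⟩ := Set.mem_iUnion₂.1 (hs (Set.mem_univ ((xtDiag f D).map l.hom x)))
  exact stab (V z) _ l (hl (Finset.mem_image_of_mem _ hz)).some (hj z) x hxz

end Groth.Agent.H8Props.FunDescent
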