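import Groth.Agent.H8Props.FunDescent.DimFun
import Mathlib.AlgebraicGeometry.Morphisms.FormallyUnramified
import Mathlib.AlgebraicGeometry.Morphisms.Etale

/-!
# Flatness in dimensions `≥ n` and etale morphisms to `X`
-/

set_option autoImplicit false
set_option linter.style.haveILetI false

universe u

open CategoryTheory CategoryTheory.Limits AlgebraicGeometry TopologicalSpace

namespace Groth.Agent.H8Props.FunDescent

open H06Mod

/-- An unramified morphism does not change transcendence degrees over the base. -/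
theorem pointTrdeg_comp_unramified {X X' T : Scheme.{u}} (φ : X' ⟶ X) (q : X ⟶ T)
    [FormallyUnramified φ] [LocallyOfFiniteType φ] (x : X') :
    pointTrdeg (φ ≫ q) x = pointTrdeg q (φ x) := by
  letI := (q.residueFieldMap (φ x)).hom.toAlgebra
  letI := (φ.residueFieldMap x).hom.toAlgebra
  letI : Algebra (T.residueField (q (φ x))) (X'.residueField x) :=
    ((φ ≫ q).residueFieldMap x).hom.toAlgebra
  haveI : IsScalarTower (T.residueField (q (φ x))) (X.residueField (φ x)) (X'.residueField x) :=
    .of_algebraMap_eq fun r => by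
      show (φ ≫ q).residueFieldMap x r = φ.residueFieldMap x (q.residueFieldMap (φ x) r)
      rw [Scheme.residueFieldMap_comp]
      rfl
  haveI : Algebra.IsSeparable (X.residueField (φ x)) (X'.residueField x) := inferInstance
  have h := trdeg_add_eq (T.residueField (q (φ x))) (X.residueField (φ x)) (A := X'.residueField x)
  rw [trdeg_eq_zero_iff.2 (inferInstance : Algebra.IsAlgebraic (X.residueField (φ x)) (X'.residueField x)),
    add_zero] at h
  exact h.symm

variable {X X' S : Scheme.{u}} (h : X' ⟶ X) (f : X ⟶ S) (T : Over S)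

/-- The base change of `h`. -/
noncomputable def liftXT : PicF.XT (h ≫ f) T ⟶ PicF.XT f T :=
  pullback.map (h ≫ f) T.hom f T.hom h (𝟙 _) (𝟙 _) (by simp) (by simp)

theorem liftXT_fst : liftXT h f T ≫ pullback.fst f T.hom = pullback.fst (h ≫ f) T.hom ≫ h :=
  pullback.lift_fst _ _ _

theorem liftXT_snd : liftXT h f T ≫ PicF.XTproj f T = PicF.XTproj (h ≫ f) T :=
  (pullback.lift_snd _ _ _).trans (Category.comp_id _)

theorem isPullback_liftXT :
    IsPullback (liftXT h f T) (pullback.fst (h ≫ f) T.hom) (pullback.fst f T.hom) h := by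
  refine IsPullback.of_right ?_ (liftXT_fst h f T) (IsPullback.of_hasPullback f T.hom).flip
  exact (liftXT_snd h f T).symm ▸ (IsPullback.of_hasPullback (h ≫ f) T.hom).flip

/-- The base change of the pullback. -/
noncomputable def ETliftIso (F : X.Modules) :
    (Scheme.Modules.pullback (liftXT h f T)).obj (FGA.ET f F T) ≅
      FGA.ET (h ≫ f) ((Scheme.Modules.pullback h).obj F) T :=
  (Scheme.Modules.pullbackComp (liftXT h f T) (pullback.fst f T.hom)).app F ≪≫
    (Scheme.Modules.pullbackCongr (liftXT_fst h f T)).app F ≪≫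
    ((Scheme.Modules.pullbackComp (pullback.fst (h ≫ f) T.hom) h).app F).symm

theorem isFlatOverAt_liftXT_iff [Flat h] (F : X.Modules) (x : PicF.XT (h ≫ f) T) :
    FlatMod.IsFlatOverAt (PicF.XTproj (h ≫ f) T)
        (FGA.ET (h ≫ f) ((Scheme.Modules.pullback h).obj F) T) x ↔
      FlatMod.IsFlatOverAt (PicF.XTproj f T) (FGA.ET f F T) (liftXT h f T x) := by
  haveI : Flat (liftXT h f T) := MorphismProperty.of_isPullback (isPullback_liftXT h f T).flip ‹_›
  rw [← H06EGA9.isFlatOverAt_congr_iso _ (ETliftIso h f T F) x,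
    ← isFlatOverAt_congr (liftXT_snd h f T) _ x]
  exact isFlatOverAt_pullback_iff (liftXT h f T) (PicF.XTproj f T) _ x

theorem pointTrdeg_liftXT [Etale h] (x : PicF.XT (h ≫ f) T) :
    pointTrdeg (PicF.XTproj (h ≫ f) T) x = pointTrdeg (PicF.XTproj f T) (liftXT h f T x) := by
  haveI : Etale (liftXT h f T) := MorphismProperty.of_isPullback (isPullback_liftXT h f T).flip ‹_›
  rw [← pointTrdeg_comp_unramified (liftXT h f T) (PicF.XTproj f T) x, liftXT_snd]

theorem dimCond_pullback [Etale h] (F : X.Modules) (n : ℕ) (hT : DimCond f F n T) :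
    DimCond (h ≫ f) ((Scheme.Modules.pullback h).obj F) n T := fun x hx =>
  lt_of_eq_of_lt (pointTrdeg_liftXT h f T x)
    (hT _ fun H => hx ((isFlatOverAt_liftXT_iff h f T F x).2 H))

end Groth.Agent.H8Props.FunDescent
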