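import Groth.Agent.H8Props.FunDescent.GenericLimit
import Groth.Agent.H8Props.FieldDimSmooth
import Mathlib.RingTheory.LocalRing.Module

/-!
# Flatness at the generic point of a fibre of a smooth morphism
-/

set_option autoImplicit false
set_option linter.style.haveILetI false

universe u

open CategoryTheory CategoryTheory.Limits AlgebraicGeometry TopologicalSpace TensorProduct

namespace Groth.Agent.H8Props.FunDescent

/-- A finitely presented module over a local algebra, flat over the base, is free as soon as the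
maximal ideal comes from the base. -/
theorem free_of_flat_of_map_eq_maximalIdeal {A R N : Type u} [CommRing A] [CommRing R] [IsLocalRing R]
    [Algebra A R] [AddCommGroup N] [Module A N] [Module R N] [IsScalarTower A R N]
    [Module.FinitePresentation R N] [Module.Flat A N] (I : Ideal A)
    (hI : I.map (algebraMap A R) = IsLocalRing.maximalIdeal R) : Module.Free R N := by
  refine Module.free_of_maximalIdeal_rTensor_injective ?_
  let m := IsLocalRing.maximalIdeal R
  let incl : I →ₗ[A] m :=
    { toFun := fun a => ⟨algebraMap A R a, hI.le (Ideal.mem_map_of_mem _ a.2)⟩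
      map_add' := fun a b => Subtype.ext (by simp)
      map_smul' := fun r a => Subtype.ext (by
        show algebraMap A R (r * a) = r • algebraMap A R a
        rw [map_mul, Algebra.smul_def]) }
  let φ : I ⊗[A] N →ₗ[A] m ⊗[R] N :=
    TensorProduct.lift (LinearMap.mk₂ A (fun a n => incl a ⊗ₜ[R] n)
      (fun a b n => by rw [map_add, TensorProduct.add_tmul])
      (fun r a n => by rw [map_smul, TensorProduct.smul_tmul'])
      (fun a n n' => TensorProduct.tmul_add _ _ _)
      (fun r a n => by rw [← TensorProduct.tmul_smul]))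
  have hsurj : ∀ z, ∃ w, φ w = z := by
    intro z
    induction z with
    | zero => exact ⟨0, map_zero φ⟩
    | add a b ha hb =>
      obtain ⟨a, rfl⟩ := ha
      obtain ⟨b, rfl⟩ := hb
      exact ⟨a + b, map_add φ a b⟩
    | tmul z n =>
      obtain ⟨z, hz⟩ := z
      have hz' : z ∈ I.map (algebraMap A R) := hI.symm.le hz
      induction hz' using Submodule.span_induction generalizing n with
      | mem z hz' =>
        obtain ⟨a, ha, rfl⟩ := hz'
        exact ⟨(⟨a, ha⟩ : I) ⊗ₜ n, rfl⟩
      | zero => exact ⟨0, by rw [map_zero]; exact (TensorProduct.zero_tmul _ n).symm⟩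
      | add a b ha' hb' iha ihb =>
        obtain ⟨a', e1⟩ := iha n (hI.le ha')
        obtain ⟨b', e2⟩ := ihb n (hI.le hb')
        refine ⟨a' + b', ?_⟩
        rw [map_add, e1, e2, ← TensorProduct.add_tmul]
        rfl
      | smul r a ha' iha =>
        obtain ⟨a', e1⟩ := iha (r • n) (hI.le ha')
        exact ⟨a', e1.trans (TensorProduct.smul_tmul r (⟨a, hI.le ha'⟩ : m) n).symm⟩
  have hcomp : ∀ w, TensorProduct.lid R N (LinearMap.rTensor N m.subtype (φ w)) =
      TensorProduct.lid A N (LinearMap.rTensor N I.subtype w) := by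
    intro w
    induction w with
    | zero => simp
    | add a b ha hb => simp only [map_add, ha, hb]
    | tmul a n => simp [φ, incl]
  intro z z' h
  obtain ⟨w, rfl⟩ := hsurj z
  obtain ⟨w', rfl⟩ := hsurj z'
  have h' := congrArg (TensorProduct.lid R N) h
  rw [hcomp, hcomp] at h'
  exact congrArg φ ((Module.Flat.rTensor_preserves_injective_linearMap _ I.injective_subtype)
    ((TensorProduct.lid A N).injective h'))

variable {X T : Scheme.{u}} (q : X ⟶ T) [Smooth q]

/-- A finitely presented module flat over the base at the generic point of a fibre is free there. -/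
theorem exists_isFreeOfRankNear_of_flat (F : X.Modules) (hFP : CohB1.IsFP F) {x : X}
    (hgen : FlatFun.IsGenericPtOfFibre q x) (h : FlatMod.IsFlatOverAt q F x) :
    ∃ r, FlatFun.IsFreeOfRankNear F r x := by
  have hF : Coh.IsQCoh F := H29Fitt.isQCoh_of_isFP F hFP
  obtain ⟨_, ⟨V, hV : IsAffineOpen V, rfl⟩, hxV, -⟩ :=
    T.isBasis_affineOpens.exists_subset_of_mem_open (Set.mem_univ (q x)) isOpen_univ
  obtain ⟨_, ⟨U, hU : IsAffineOpen U, rfl⟩, hxU, hUV⟩ :=
    X.isBasis_affineOpens.exists_subset_of_mem_open hxV (q ⁻¹ᵁ V).isOpen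
  have hUV' : U ≤ q ⁻¹ᵁ V := hUV
  let P := (hU.primeIdealOf ⟨x, hxU⟩).asIdeal
  letI := Module.compHom Γ(F, U) (q.appLE V U hUV').hom
  letI := (q.appLE V U hUV').hom.toAlgebra
  haveI : IsScalarTower Γ(T, V) Γ(X, U) Γ(F, U) := .of_algebraMap_smul fun _ _ => rfl
  haveI : Algebra.Smooth Γ(T, V) Γ(X, U) := q.smooth_appLE hV hU hUV'
  haveI := FinLocFree.finitePresentation_sections F hFP hU
  haveI : Module.Flat Γ(T, V) (LocalizedModule P.primeCompl Γ(F, U)) :=
    (FlatLocus.isFlatOverAt_iff_localizedModule q F hF hV hU hUV' ⟨x, hxU⟩).1 h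
  let p := P.comap (algebraMap Γ(T, V) Γ(X, U))
  have hgen' : ∀ a ∈ P, ∀ Q : Ideal Γ(X, U), Q.IsPrime → p.map (algebraMap _ _) ≤ Q → Q ≤ P → a ∈ Q := by
    intro a ha Q hQ hpQ hQP
    obtain ⟨y, hy⟩ := H29Blow.exists_primeIdealOf_eq hU (⟨Q, hQ⟩ : PrimeSpectrum Γ(X, U))
    have hyQ : (hU.primeIdealOf y).asIdeal = Q := congrArg PrimeSpectrum.asIdeal hy
    have hcomap : ∀ z : U, (hU.primeIdealOf z).asIdeal.comap (algebraMap Γ(T, V) Γ(X, U)) =
        (hV.primeIdealOf ⟨q z.1, hUV' z.2⟩).asIdeal := fun z => by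
      ext r
      rw [Ideal.mem_comap, H29Blow.mem_primeIdealOf_iff hU z, H29Blow.mem_primeIdealOf_iff hV _]
      refine not_congr ?_
      show IsUnit (X.presheaf.germ U z.1 z.2 (q.appLE V U hUV' r)) ↔ _
      rw [← X.mem_basicOpen (q.appLE V U hUV' r) z.1 z.2, ← T.mem_basicOpen r _ (hUV' z.2),
        Scheme.Hom.appLE, CommRingCat.comp_apply, Scheme.basicOpen_res, ← Scheme.preimage_basicOpen]
      exact ⟨fun h => h.2, fun h => ⟨z.2, h⟩⟩
    have hqy : q y.1 = q x := by
      have hQp : Q.comap (algebraMap Γ(T, V) Γ(X, U)) = p :=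
        le_antisymm (Ideal.comap_mono hQP) (fun r hr => hpQ (Ideal.mem_map_of_mem _ hr))
      rw [← hyQ, hcomap] at hQp
      have := congrArg hV.fromSpec (PrimeSpectrum.ext (hQp.trans (hcomap ⟨x, hxU⟩)))
      rwa [hV.fromSpec_primeIdealOf, hV.fromSpec_primeIdealOf] at this
    rw [← hyQ, H29Blow.mem_primeIdealOf_iff hU y a, ← X.mem_basicOpen a y.1 y.2]
    intro hya
    exact (H29Blow.mem_primeIdealOf_iff hU ⟨x, hxU⟩ a).1 ha
      ((X.mem_basicOpen a x hxU).1 ((hgen y.1 hqy).mem_open (X.basicOpen a).isOpen hya))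
  have hmax : p.map (algebraMap Γ(T, V) (Localization.AtPrime P)) =
      IsLocalRing.maximalIdeal (Localization.AtPrime P) := by
    rw [← Localization.AtPrime.map_eq_maximalIdeal,
      IsScalarTower.algebraMap_eq Γ(T, V) Γ(X, U) (Localization.AtPrime P), ← Ideal.map_map]
    refine le_antisymm (Ideal.map_mono Ideal.map_comap_le) (Ideal.map_le_iff_le_comap.2 fun a ha => ?_)
    obtain ⟨t, ht, hta⟩ := exists_notMem_mul_mem P a fun Q hQ hpQ hQP => hgen' a ha Q hQ hpQ hQP
    exact (IsLocalization.algebraMap_mem_map_algebraMap_iff P.primeCompl _ _ a).2 ⟨t, ht, hta⟩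
  haveI : Module.Free (Localization.AtPrime P) (LocalizedModule P.primeCompl Γ(F, U)) :=
    free_of_flat_of_map_eq_maximalIdeal p hmax
  exact exists_isFreeOfRankNear_of_free F hFP hU ⟨x, hxU⟩

theorem isFlatOverAt_of_stalkFree (F : X.Modules) {p : ℕ} {x : X} (h : StalkFree F p x) :
    FlatMod.IsFlatOverAt q F x := by
  obtain ⟨b⟩ := h
  letI := FlatMod.moduleStalkOver q F x
  letI := (q.stalkMap x).hom.toAlgebra
  haveI : IsScalarTower (T.presheaf.stalk (q.base x)) (X.presheaf.stalk x) (F.presheaf.stalk x) :=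
    .of_algebraMap_smul fun _ _ => rfl
  haveI := Module.Free.of_basis b
  haveI : Module.Flat (T.presheaf.stalk (q.base x)) (X.presheaf.stalk x) := Flat.stalkMap q x
  exact Module.Flat.trans (T.presheaf.stalk (q.base x)) (X.presheaf.stalk x) (F.presheaf.stalk x)

open FieldDim in
/-- Over an irreducible fibre of dimension `d` the generic point is the only point of transcendence
degree at least `d`. -/
theorem le_pointTrdeg_iff_isGenericPtOfFibre (d : ℕ) [SmoothOfRelativeDimension d q]
    [GeometricallyIrreducible q] (x : X) :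
    (d : Cardinal.{u}) ≤ pointTrdeg q x ↔ FlatFun.IsGenericPtOfFibre q x := by
  let t := q x
  haveI := locallyOfFiniteType_fiberToSpec q t
  let η : q.fiber t := genericPoint _
  have hloc : FlatMor.localDim (q.fiber t) (q.asFiber x) = (d : WithBot ℕ∞) :=
    fibreDimAt_of_smoothOfRelativeDimension q d x
  have hle : ∀ u, cdim u ≤ cdim η := fun u =>
    dim_mono (closure_minimal (Set.singleton_subset_iff.2 (genericPoint_specializes u).mem_closure)
      isClosed_closure)
  have hη : cdim η = (d : WithBot ℕ∞) := by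
    rw [← hloc, @localDim_eq (T.residueField t) _ _ (q.fiberToSpecResidueField t) ‹_›]
    exact le_antisymm (le_iSup_of_le ⟨η, genericPoint_specializes _⟩ le_rfl) (iSup_le fun u => hle u.1)
  obtain ⟨s, hs, hs'⟩ := exists_cdim_pointTrdeg q (q.asFiber x) (q.fiberι_asFiber x)
  rw [hs']
  constructor
  · intro h
    have heq : η = q.asFiber x := by
      by_contra hne
      have := @cdim_lt (T.residueField t) _ _ (q.fiberToSpecResidueField t) ‹_› _ _
        (genericPoint_specializes (q.asFiber x)) hne
      rw [hη, hs] at this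
      have h1 : s < d := by exact_mod_cast this
      have h2 : d ≤ s := by exact_mod_cast h
      omega
    intro x' hx'
    obtain ⟨z, rfl⟩ : x' ∈ Set.range (q.fiberι t) := by rw [q.range_fiberι]; exact hx'
    have := (heq ▸ genericPoint_specializes z : q.asFiber x ⤳ z).map (q.fiberι t).continuous
    erw [q.fiberι_asFiber x] at this
    exact this
  · intro h
    have heq : q.asFiber x = η := by
      refine (?_ : q.asFiber x ⤳ η).antisymm (genericPoint_specializes _) |>.eq
      refine (q.fiberι t).isEmbedding.isInducing.specializes_iff.1 ?_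
      erw [q.fiberι_asFiber x]
      exact h _ ((q.range_fiberι t).subset (Set.mem_range_self η))
    rw [heq, hη] at hs
    exact_mod_cast hs.le

end Groth.Agent.H8Props.FunDescent
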