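import Groth.Agent.H02CA.ColimTensor
import Mathlib.LinearAlgebra.TensorProduct.Tower
import Mathlib.RingTheory.Finiteness.Basic
import Mathlib.Algebra.Module.FinitePresentation

/-!
# A linear map which becomes zero / surjective / bijective over a colimit of algebras
-/

set_option autoImplicit false
set_option linter.style.haveILetI false

universe u

open TensorProduct

namespace Groth.Agent.H8Props.FunDescent.Stage

variable {R : Type u} [CommRing R] {M N : Type u} [AddCommGroup M] [Module R M] [AddCommGroup N]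
  [Module R N]

theorem mem_range_lTensor_smul (B : Type u) [CommRing B] [Algebra R B] (φ : M →ₗ[R] N) (b : B)
    {z : B ⊗[R] N} (hz : z ∈ LinearMap.range (φ.lTensor B)) :
    b • z ∈ LinearMap.range (φ.lTensor B) := by
  obtain ⟨y, rfl⟩ := hz
  exact ⟨b • y, (AlgebraTensorModule.lTensor B B φ).map_smul b y⟩

theorem surjective_lTensor_of_top (B : Type u) [CommRing B] [Algebra R B] (φ : M →ₗ[R] N)
    (s : Set N) (hs : Submodule.span R s = ⊤)
    (h : ∀ n ∈ s, (1 : B) ⊗ₜ[R] n ∈ LinearMap.range (φ.lTensor B)) :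
    Function.Surjective (φ.lTensor B) := by
  intro z
  induction z with
  | zero => exact ⟨0, map_zero _⟩
  | add a b ha hb =>
    obtain ⟨a, rfl⟩ := ha
    obtain ⟨b, rfl⟩ := hb
    exact ⟨a + b, map_add _ _ _⟩
  | tmul b n =>
    have hn : (1 : B) ⊗ₜ[R] n ∈ LinearMap.range (φ.lTensor B) := by
      have hle : Submodule.span R s ≤ (LinearMap.range (φ.lTensor B)).comap (TensorProduct.mk R B N 1) :=
        Submodule.span_le.2 h
      exact hle (hs ▸ Submodule.mem_top)
    have h1 := mem_range_lTensor_smul B φ b hn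
    rwa [TensorProduct.smul_tmul', smul_eq_mul, mul_one] at h1

/-- Zero maps are stable under extension of scalars. -/
theorem eq_zero_of_algHom {A B : Type u} [CommRing A] [Algebra R A] [CommRing B] [Algebra R B]
    (g : A →ₐ[R] B) (φ : M →ₗ[R] N) (h : φ.lTensor A = 0) : φ.lTensor B = 0 := by
  refine TensorProduct.ext' fun b m => ?_
  have h1 : φ.lTensor B ((1 : B) ⊗ₜ m) = 0 := by
    have := congrArg (g.toLinearMap.rTensor N) (LinearMap.congr_fun h ((1 : A) ⊗ₜ m))
    simpa using this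
  have h2 := (AlgebraTensorModule.lTensor B B φ).map_smul b ((1 : B) ⊗ₜ m)
  rw [TensorProduct.smul_tmul', smul_eq_mul, mul_one] at h2
  refine h2.trans ?_
  show b • φ.lTensor B ((1 : B) ⊗ₜ m) = 0
  rw [h1, smul_zero]

theorem surjective_of_algHom {A B : Type u} [CommRing A] [Algebra R A] [CommRing B] [Algebra R B]
    (g : A →ₐ[R] B) (φ : M →ₗ[R] N) (h : Function.Surjective (φ.lTensor A)) :
    Function.Surjective (φ.lTensor B) := by
  refine surjective_lTensor_of_top B φ Set.univ Submodule.span_univ fun n _ => ?_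
  obtain ⟨y, hy⟩ := h ((1 : A) ⊗ₜ n)
  refine ⟨g.toLinearMap.rTensor M y, ?_⟩
  rw [← LinearMap.comp_apply, LinearMap.lTensor_comp_rTensor, ← LinearMap.rTensor_comp_lTensor,
    LinearMap.comp_apply, hy]
  simp

theorem bijective_of_algHom {A B : Type u} [CommRing A] [Algebra R A] [CommRing B] [Algebra R B]
    (g : A →ₐ[R] B) (φ : M →ₗ[R] N) (h : Function.Bijective (φ.lTensor A)) :
    Function.Bijective (φ.lTensor B) := by
  letI := g.toRingHom.toAlgebra
  haveI : IsScalarTower R A B := .of_algebraMap_eq fun r => (g.commutes r).symm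
  let e := LinearEquiv.ofBijective (AlgebraTensorModule.lTensor A A φ) h
  have key : ∀ t, φ.lTensor B (AlgebraTensorModule.cancelBaseChange R A A B M t) =
      AlgebraTensorModule.cancelBaseChange R A A B N (LinearEquiv.lTensor B e t) := by
    intro t
    induction t with
    | zero => simp
    | add a b ha hb => simp only [map_add, ha, hb]
    | tmul b y =>
      induction y with
      | zero => simp
      | add a c ha hc => simp only [TensorProduct.tmul_add, map_add, ha, hc]
      | tmul a m => simp [e]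
  have : ⇑(φ.lTensor B) = AlgebraTensorModule.cancelBaseChange R A A B N ∘ LinearEquiv.lTensor B e ∘
      (AlgebraTensorModule.cancelBaseChange R A A B M).symm := funext fun t => by
    simpa using key ((AlgebraTensorModule.cancelBaseChange R A A B M).symm t)
  rw [this]
  exact (LinearEquiv.bijective _).comp ((LinearEquiv.bijective _).comp (LinearEquiv.bijective _))

/-- A system of algebras with a map to a limit algebra, given by compatible maps from stages, which
is elementwise a colimit. -/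
structure Sys {J : Type u} (G : J → Type u) [∀ i, CommRing (G i)] [∀ i, Algebra R (G i)]
    (A : Type u) [CommRing A] [Algebra R A] (r : J → J → Type u) where
  g : ∀ i, G i →ₐ[R] A
  m : ∀ {i j}, r i j → (G i →ₐ[R] G j)
  w : ∀ {i j} (a : r i j) x, g j (m a x) = g i x
  comp : ∀ {i j k} (a : r i j) (b : r j k), ∃ c : r i k, ∀ x, m c x = m b (m a x)
  dir : ∀ i j, ∃ k, Nonempty (r i k) ∧ Nonempty (r j k)
  ne : Nonempty J
  surj : ∀ y, ∃ i x, g i x = y
  eq : ∀ i (x y : G i), g i x = g i y → ∃ (j : J) (a : r i j), m a x = m a y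

namespace Sys

variable {J : Type u} {G : J → Type u} [∀ i, CommRing (G i)] [∀ i, Algebra R (G i)]
  {A : Type u} [CommRing A] [Algebra R A] {r : J → J → Type u} (sy : Sys (R := R) G A r)

include sy

theorem refl (i : J) : ∃ j, Nonempty (r i j) :=
  let ⟨k, h, _⟩ := sy.dir i i
  ⟨k, h⟩

/-- Finitely many equalities hold at a later stage. -/
theorem eq_finset {i : J} {κ : Type*} (s : Finset κ) (x y : κ → G i)
    (h : ∀ c ∈ s, sy.g i (x c) = sy.g i (y c)) :
    ∃ (j : J) (a : r i j), ∀ c ∈ s, sy.m a (x c) = sy.m a (y c) := by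
  classical
  induction s using Finset.induction with
  | empty =>
    obtain ⟨j, ⟨a⟩⟩ := sy.refl i
    exact ⟨j, a, by simp⟩
  | insert c s hc ih =>
    obtain ⟨j, a, ha⟩ := ih fun c hc => h c (Finset.mem_insert_of_mem hc)
    obtain ⟨k, b, hb⟩ := sy.eq j (sy.m a (x c)) (sy.m a (y c)) (by
      rw [sy.w, sy.w, h c (Finset.mem_insert_self _ _)])
    obtain ⟨d, hd⟩ := sy.comp a b
    refine ⟨k, d, fun c' hc' => ?_⟩
    rw [hd, hd]
    rcases Finset.mem_insert.mp hc' with rfl | hc'
    · exact hb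
    · rw [ha c' hc']

theorem approx :
    H02CA.ColimTensor.Approx sy.g G A (fun i => sy.g i) (fun φ => φ.1) where
  compat φ x := AlgHom.congr_fun φ.2 x
  comp _ _ _ := rfl
  dir i j := by
    obtain ⟨k, ⟨a⟩, ⟨b⟩⟩ := sy.dir i j
    exact ⟨k, ⟨⟨sy.m a, AlgHom.ext (sy.w a)⟩⟩, ⟨⟨sy.m b, AlgHom.ext (sy.w b)⟩⟩⟩
  ne := sy.ne
  surj := sy.surj
  eq i x y h := by
    obtain ⟨j, a, ha⟩ := sy.eq i x y h
    exact ⟨j, ⟨sy.m a, AlgHom.ext (sy.w a)⟩, ha⟩

/-- An element of a tensor product vanishing in the limit vanishes at a stage. -/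
theorem exists_eq_zero (i : J) (z : G i ⊗[R] N) (hz : (sy.g i).toLinearMap.rTensor N z = 0) :
    ∃ (j : J) (a : r i j), (sy.m a).toLinearMap.rTensor N z = 0 := by
  classical
  have hT := sy.approx.rTensor (fun i => (sy.g i).toLinearMap) (fun φ => φ.1.toLinearMap) N
  obtain ⟨j, φ, hφ⟩ := hT.eq i z 0 (hz.trans (map_zero _).symm)
  rw [map_zero] at hφ
  obtain ⟨n, c, d, rfl⟩ := TensorProduct.exists_sum_tmul_eq z
  obtain ⟨k, ⟨a⟩, ⟨b⟩⟩ := sy.dir i j
  obtain ⟨l, e, he⟩ := sy.eq_finset Finset.univ (fun t : Fin n => sy.m a (c t))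
    (fun t => sy.m b (φ.1 (c t))) fun t _ => by
      rw [sy.w, sy.w]
      exact (AlgHom.congr_fun φ.2 (c t)).symm
  obtain ⟨ae, hae⟩ := sy.comp a e
  refine ⟨l, ae, ?_⟩
  have h2 : ((sy.m e).comp (sy.m b)).toLinearMap.rTensor N
      (φ.1.toLinearMap.rTensor N (∑ t, c t ⊗ₜ d t)) = 0 := by
    rw [hφ, map_zero]
  simp only [map_sum, LinearMap.rTensor_tmul, AlgHom.toLinearMap_apply, AlgHom.comp_apply] at h2 ⊢
  refine Eq.trans (Finset.sum_congr rfl fun t _ => ?_) h2
  rw [hae, he t (Finset.mem_univ t)]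

theorem exists_stage_ge {n : ℕ} {i : J} (j : Fin n → J) :
    ∃ k, Nonempty (r i k) ∧ ∀ t, Nonempty (r (j t) k) := by
  induction n with
  | zero =>
    obtain ⟨k, hk⟩ := sy.refl i
    exact ⟨k, hk, fun t => t.elim0⟩
  | succ n ih =>
    obtain ⟨k, ⟨a⟩, hk⟩ := ih (fun t => j t.castSucc)
    obtain ⟨l, ⟨b⟩, ⟨c⟩⟩ := sy.dir k (j (Fin.last n))
    refine ⟨l, ⟨(sy.comp a b).choose⟩, fun t => ?_⟩
    induction t using Fin.lastCases with
    | last => exact ⟨c⟩
    | cast t =>
      obtain ⟨d⟩ := hk t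
      exact ⟨(sy.comp d b).choose⟩

/-- Vanishing descends to a stage. -/
theorem exists_lTensor_eq_zero [Module.Finite R M] (φ : M →ₗ[R] N) (h : φ.lTensor A = 0) (i₀ : J) :
    ∃ j, Nonempty (r i₀ j) ∧ φ.lTensor (G j) = 0 := by
  obtain ⟨n, s, hs⟩ := Module.Finite.exists_fin (R := R) (M := M)
  have hz : ∀ t, (sy.g i₀).toLinearMap.rTensor N ((1 : G i₀) ⊗ₜ φ (s t)) = 0 := fun t => by
    simpa using LinearMap.congr_fun h ((1 : A) ⊗ₜ s t)
  choose j a ha using fun t => sy.exists_eq_zero i₀ _ (hz t)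
  obtain ⟨k, hk, hjk⟩ := sy.exists_stage_ge (i := i₀) j
  refine ⟨k, hk, TensorProduct.ext' fun b m => ?_⟩
  have h1 : ∀ t, (1 : G k) ⊗ₜ[R] φ (s t) = 0 := fun t => by
    obtain ⟨c⟩ := hjk t
    have := congrArg ((sy.m c).toLinearMap.rTensor N) (ha t)
    simpa using this
  have h2 : ∀ m, (1 : G k) ⊗ₜ[R] φ m = 0 := fun m => by
    have hle : Submodule.span R (Set.range s) ≤ LinearMap.ker ((TensorProduct.mk R (G k) N 1).comp φ) :=
      Submodule.span_le.2 (Set.range_subset_iff.2 h1)
    exact hle (hs ▸ Submodule.mem_top)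
  show b ⊗ₜ[R] φ m = 0
  rw [show b ⊗ₜ[R] φ m = b • ((1 : G k) ⊗ₜ[R] φ m) by rw [TensorProduct.smul_tmul', smul_eq_mul, mul_one],
    h2, smul_zero]

/-- Surjectivity descends to a stage. -/
theorem exists_lTensor_surjective [Module.Finite R N] (φ : M →ₗ[R] N)
    (h : Function.Surjective (φ.lTensor A)) (i₀ : J) :
    ∃ j, Nonempty (r i₀ j) ∧ Function.Surjective (φ.lTensor (G j)) := by
  obtain ⟨n, s, hs⟩ := Module.Finite.exists_fin (R := R) (M := N)
  have step : ∀ t, ∃ j, (1 : G j) ⊗ₜ[R] s t ∈ LinearMap.range (φ.lTensor (G j)) := fun t => by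
    obtain ⟨y, hy⟩ := h ((1 : A) ⊗ₜ s t)
    obtain ⟨i, y', rfl⟩ := (sy.approx.rTensor (fun i => (sy.g i).toLinearMap)
      (fun φ => φ.1.toLinearMap) M).surj y
    obtain ⟨j, a, ha⟩ := sy.exists_eq_zero i (φ.lTensor (G i) y' - 1 ⊗ₜ s t) (by
      rw [map_sub, ← LinearMap.comp_apply, LinearMap.rTensor_comp_lTensor,
        ← LinearMap.lTensor_comp_rTensor, LinearMap.comp_apply, hy]
      simp)
    refine ⟨j, (sy.m a).toLinearMap.rTensor M y', ?_⟩
    rw [map_sub, sub_eq_zero, ← LinearMap.comp_apply, LinearMap.rTensor_comp_lTensor,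
      ← LinearMap.lTensor_comp_rTensor, LinearMap.comp_apply] at ha
    simpa using ha
  choose j hj using step
  obtain ⟨k, hk, hjk⟩ := sy.exists_stage_ge (i := i₀) j
  refine ⟨k, hk, surjective_lTensor_of_top (G k) φ _ hs (Set.forall_mem_range.2 fun t => ?_)⟩
  obtain ⟨c⟩ := hjk t
  obtain ⟨y, hy⟩ := hj t
  refine ⟨(sy.m c).toLinearMap.rTensor M y, ?_⟩
  rw [← LinearMap.comp_apply, LinearMap.lTensor_comp_rTensor, ← LinearMap.rTensor_comp_lTensor,
    LinearMap.comp_apply, hy]
  simp

/-- Bijectivity descends to a stage. -/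
theorem exists_lTensor_bijective [Module.Finite R M] [Module.FinitePresentation R N] (φ : M →ₗ[R] N)
    (h : Function.Bijective (φ.lTensor A)) (i₀ : J) :
    ∃ j, Nonempty (r i₀ j) ∧ Function.Bijective (φ.lTensor (G j)) := by
  obtain ⟨i, ⟨a₀⟩, hi⟩ := sy.exists_lTensor_surjective φ h.2 i₀
  -- the kernel at the stage `i` is finitely generated
  let ψ : G i ⊗[R] M →ₗ[G i] G i ⊗[R] N := AlgebraTensorModule.lTensor (G i) (G i) φ
  have hψ : (LinearMap.ker ψ).FG := Module.FinitePresentation.fg_ker ψ hi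
  obtain ⟨n, s, hs⟩ := Submodule.fg_iff_exists_fin_generating_family.1 hψ
  have hz : ∀ t, (sy.g i).toLinearMap.rTensor M (s t) = 0 := fun t => by
    have hst : φ.lTensor (G i) (s t) = 0 := by
      have : s t ∈ LinearMap.ker ψ := hs ▸ Submodule.subset_span ⟨t, rfl⟩
      exact LinearMap.mem_ker.1 this
    refine h.1 ?_
    rw [map_zero, ← LinearMap.comp_apply, LinearMap.lTensor_comp_rTensor,
      ← LinearMap.rTensor_comp_lTensor, LinearMap.comp_apply, hst, map_zero]
  have hlast : ∃ (l : J) (e : r i l), Nonempty (r i₀ l) ∧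
      ∀ t, (sy.m e).toLinearMap.rTensor M (s t) = 0 := by
    obtain ⟨k, ⟨ak⟩⟩ := sy.refl i
    obtain ⟨b, -⟩ := sy.comp a₀ ak
    -- iterate over the finitely many elements
    suffices H : ∀ (s' : Finset (Fin n)), ∃ (l : J) (e : r i l), Nonempty (r i₀ l) ∧
        ∀ t ∈ s', (sy.m e).toLinearMap.rTensor M (s t) = 0 by
      obtain ⟨l, e, he₀, he⟩ := H Finset.univ
      exact ⟨l, e, he₀, fun t => he t (Finset.mem_univ t)⟩
    classical
    intro s'
    induction s' using Finset.induction with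
    | empty => exact ⟨k, ak, ⟨b⟩, by simp⟩
    | insert t s' ht ih =>
      obtain ⟨l, e, ⟨e₀⟩, he⟩ := ih
      obtain ⟨l', e', he'⟩ := sy.exists_eq_zero l ((sy.m e).toLinearMap.rTensor M (s t)) (by
        rw [← LinearMap.comp_apply, ← LinearMap.rTensor_comp,
          show (sy.g l).toLinearMap.comp (sy.m e).toLinearMap = (sy.g i).toLinearMap from
            LinearMap.ext (sy.w e), hz t])
      obtain ⟨d, hd⟩ := sy.comp e e'
      obtain ⟨d₀, -⟩ := sy.comp e₀ e'
      refine ⟨l', d, ⟨d₀⟩, fun t' ht' => ?_⟩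
      have hcomp : (sy.m d).toLinearMap.rTensor M (s t') =
          (sy.m e').toLinearMap.rTensor M ((sy.m e).toLinearMap.rTensor M (s t')) := by
        rw [← LinearMap.comp_apply, ← LinearMap.rTensor_comp]
        exact congrArg (fun l => LinearMap.rTensor M l (s t')) (LinearMap.ext hd)
      rw [hcomp]
      rcases Finset.mem_insert.mp ht' with rfl | ht'
      · exact he'
      · rw [he t' ht', map_zero]
  obtain ⟨l, e, hl₀, he⟩ := hlast
  refine ⟨l, hl₀, ?_, surjective_of_algHom (sy.m e) φ hi⟩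
  -- generators of the kernel at stage `l` come from stage `i`
  letI := (sy.m e).toRingHom.toAlgebra
  haveI : IsScalarTower R (G i) (G l) := .of_algebraMap_eq fun x => ((sy.m e).commutes x).symm
  rw [injective_iff_map_eq_zero]
  intro z hz0
  obtain ⟨w, rfl⟩ := (AlgebraTensorModule.cancelBaseChange R (G i) (G i) (G l) M).surjective z
  have key : ∀ w, φ.lTensor (G l) (AlgebraTensorModule.cancelBaseChange R (G i) (G i) (G l) M w) =
      AlgebraTensorModule.cancelBaseChange R (G i) (G i) (G l) N (ψ.lTensor (G l) w) := by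
    intro w
    induction w with
    | zero => simp
    | add a b ha hb => simp only [map_add, ha, hb]
    | tmul b y =>
      induction y with
      | zero => simp
      | add a c ha hc => simp only [TensorProduct.tmul_add, map_add, ha, hc]
      | tmul a m => simp [ψ]
  rw [key, LinearEquiv.map_eq_zero_iff] at hz0
  have hrt := @lTensor_exact (G i) (LinearMap.ker ψ) (G i ⊗[R] M) (G i ⊗[R] N) _ _ _ _ _ _ _
    (LinearMap.ker ψ).subtype ψ (G l) _ _ (LinearMap.exact_subtype_ker_map ψ) hi
  obtain ⟨v, rfl⟩ := (hrt w).mp hz0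
  induction v with
  | zero => simp
  | add a b ha hb =>
    simp only [map_add]
    rw [ha (hrt.apply_apply_eq_zero a), hb (hrt.apply_apply_eq_zero b), add_zero]
  | tmul b y =>
    obtain ⟨c, hc⟩ := (Submodule.mem_span_range_iff_exists_fun (G i)).1
      (show (y : G i ⊗[R] M) ∈ Submodule.span (G i) (Set.range s) from hs.symm ▸ y.2)
    rw [LinearMap.lTensor_tmul, Submodule.subtype_apply, ← hc, TensorProduct.tmul_sum, map_sum]
    refine Finset.sum_eq_zero fun t _ => ?_
    rw [← TensorProduct.smul_tmul]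
    have h1 : ∀ (b : G l) (y : G i ⊗[R] M),
        AlgebraTensorModule.cancelBaseChange R (G i) (G i) (G l) M (b ⊗ₜ y) =
          b • (sy.m e).toLinearMap.rTensor M y := fun b y => by
      induction y with
      | zero => simp
      | add a c ha hc => simp only [TensorProduct.tmul_add, map_add, smul_add, ha, hc]
      | tmul a m => simp [Algebra.smul_def, TensorProduct.smul_tmul', RingHom.algebraMap_toAlgebra, mul_comm]
    rw [h1, he t, smul_zero]

end Sys

end Groth.Agent.H8Props.FunDescent.Stage
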