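import Groth.Agent.H8Props.FunDescent.GenericFlat

/-!
# `F_d` is the disjoint union of the `H_p`
-/

set_option autoImplicit false
set_option linter.style.haveILetI false

universe u

open CategoryTheory CategoryTheory.Limits AlgebraicGeometry TopologicalSpace TensorProduct

namespace Groth.Agent.H8Props.FunDescent

open H29Fitt H06Mod

/-- A family of sections spanning over an affine open bounds the rank of a free stalk. -/
theorem exists_rank_bound {X : Scheme.{u}} [IsAffine X] (F : X.Modules) (hF : Coh.IsQCoh F)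
    (hFT : CohB1.IsFT F) :
    ∃ c : ℕ, ∀ {Y : Scheme.{u}} (g : Y ⟶ X) (y : Y) (p : ℕ),
      StalkFree ((Scheme.Modules.pullback g).obj F) p y → p ≤ c := by
  have hX : IsAffineOpen (⊤ : X.Opens) := isAffineOpen_top X
  haveI : Module.Finite Γ(X, ⊤) Γ(F, ⊤) := @H10Coh.finite_sections _ F hF hFT _ hX
  obtain ⟨c, v, hv⟩ := Module.Finite.exists_fin (R := Γ(X, ⊤)) (M := Γ(F, ⊤))
  refine ⟨c, fun {Y} g y p ⟨b⟩ => ?_⟩
  let x : (⊤ : X.Opens) := ⟨g y, trivial⟩
  letI := TopCat.Presheaf.algebra_section_stalk X.presheaf x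
  letI := Module.compHom (F.presheaf.stalk (g y)) (algebraMap Γ(X, ⊤) (X.presheaf.stalk (g y)))
  haveI : IsScalarTower Γ(X, ⊤) (X.presheaf.stalk (g y)) (F.presheaf.stalk (g y)) :=
    .of_algebraMap_smul fun _ _ => rfl
  haveI : IsLocalization (hX.primeIdealOf x).asIdeal.primeCompl (X.presheaf.stalk (g y)) :=
    hX.isLocalization_stalk x
  haveI : IsLocalizedModule (hX.primeIdealOf x).asIdeal.primeCompl (germLin F x) :=
    isLocalizedModule_germLin F hF hX x
  have hsp : Submodule.span (X.presheaf.stalk (g y)) (germLin F x '' Set.range v) = ⊤ :=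
    span_eq_top_of_isLocalizedModule (X.presheaf.stalk (g y)) (hX.primeIdealOf x).asIdeal.primeCompl
      (germLin F x) hv
  rw [← Set.range_comp] at hsp
  letI := stalkAlgebra g y
  let w : Fin c → Fin p → Y.presheaf.stalk y :=
    fun i => (b.map (pullStalkEquiv g F y).symm).equivFun (1 ⊗ₜ germLin F x (v i))
  have hw : Submodule.span (Y.presheaf.stalk y) (Set.range w) = ⊤ := by
    have h1 : Submodule.span (Y.presheaf.stalk y)
        (Set.range fun i => (1 : Y.presheaf.stalk y) ⊗ₜ[X.presheaf.stalk (g.base y)] germLin F x (v i)) = ⊤ := by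
      refine Submodule.eq_top_iff'.2 fun z => ?_
      induction z with
      | zero => exact zero_mem _
      | add a b ha hb => exact add_mem ha hb
      | tmul r m =>
        obtain ⟨a, ha⟩ := (Submodule.mem_span_range_iff_exists_fun (X.presheaf.stalk (g y))).1
          (hsp.symm ▸ Submodule.mem_top (x := m))
        rw [← ha, TensorProduct.tmul_sum]
        refine Submodule.sum_mem _ fun i _ => ?_
        rw [TensorProduct.tmul_smul, show r ⊗ₜ[X.presheaf.stalk (g.base y)] ((germLin F x ∘ v) i) =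
          r • ((1 : Y.presheaf.stalk y) ⊗ₜ[X.presheaf.stalk (g.base y)] germLin F x (v i)) by
            rw [TensorProduct.smul_tmul', smul_eq_mul, mul_one]; rfl]
        rw [← algebraMap_smul (Y.presheaf.stalk y), smul_smul]
        exact Submodule.smul_mem _ _ (Submodule.subset_span ⟨i, rfl⟩)
    let e := (b.map (pullStalkEquiv g F y).symm).equivFun
    calc _ = Submodule.map e.toLinearMap (Submodule.span (Y.presheaf.stalk y)
          (Set.range fun i => (1 : Y.presheaf.stalk y) ⊗ₜ[X.presheaf.stalk (g.base y)] germLin F x (v i))) := by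
            rw [Submodule.map_span, ← Set.range_comp]; rfl
      _ = ⊤ := by rw [h1, Submodule.map_top, LinearEquiv.range]
  exact le_of_fin_surjective (Y.presheaf.stalk y) (Fintype.linearCombination (Y.presheaf.stalk y) w)
    (LinearMap.range_eq_top.1 (by rw [Fintype.range_linearCombination, hw]))

variable {X S : Scheme.{u}} (f : X ⟶ S) (d : ℕ) [SmoothOfRelativeDimension d f] [Smooth f]
  [GeometricallyIrreducible f] (F : X.Modules) (hF : Coh.IsQCoh F) (hFP : CohB1.IsFP F)

include hF hFP in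
theorem exists_dimCond_iff [IsAffine X] :
    ∃ c : ℕ, ∀ T : Over S,
      DimCond f F d T ↔
      ∀ t : T.left, ∃ (V : T.left.Opens) (p : ℕ), t ∈ V ∧ p ≤ c ∧
        FreeCond f F p (Over.mk (V.ι ≫ T.hom)) := by
  have hFT := H29Fitt.isFT_of_isFP F hFP
  obtain ⟨c, hc⟩ := exists_rank_bound F hF hFT
  refine ⟨c, fun T => ?_⟩
  haveI := smooth_XTproj f T
  haveI := geometricallyIrreducible_XTproj f T
  haveI : SmoothOfRelativeDimension d (PicF.XTproj f T) := by
    haveI := smoothOfRelativeDimension_isStableUnderBaseChange (n := d)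
    exact MorphismProperty.pullback_snd (P := @SmoothOfRelativeDimension d) f T.hom ‹_›
  have hFT' : Coh.IsQCoh (FGA.ET f F T) := H29Fitt.isQCoh_pullback _ F hF
  constructor
  · intro h t
    obtain ⟨x, hx, hgen⟩ := exists_isGenericPtOfFibre (PicF.XTproj f T) t
    have hflat : FlatMod.IsFlatOverAt (PicF.XTproj f T) (FGA.ET f F T) x := by
      by_contra hn
      exact not_le.2 (h x hn) ((le_pointTrdeg_iff_isGenericPtOfFibre _ d x).2 hgen)
    obtain ⟨p, O, hxO, ⟨e⟩⟩ := exists_isFreeOfRankNear_of_flat (PicF.XTproj f T) (FGA.ET f F T)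
      (H06EGA9.isFP_pullback _ hFP) hgen hflat
    let V : T.left.Opens :=
      ⟨PicF.XTproj f T '' (O : Set _), (PicF.XTproj f T).isOpenMap _ O.isOpen⟩
    refine ⟨V, p, ⟨x, hxO, hx⟩, hc (pullback.fst f T.hom) x p
      (stalkFree_of_isFreeOfRankNear _ hFT' ⟨O, hxO, ⟨e⟩⟩), ?_⟩
    let g : Over.mk (V.ι ≫ T.hom) ⟶ T := Over.homMk V.ι
    rw [freeCond_iff f F hF hFT]
    intro v
    obtain ⟨x₁, hx₁O, hx₁⟩ : g.left v ∈ V := v.2
    obtain ⟨xg, hxg, hgen₁⟩ := exists_isGenericPtOfFibre (PicF.XTproj f T) (g.left v)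
    have hxgO : xg ∈ O := (hgen₁ x₁ (hx₁.trans hxg.symm)).mem_open O.isOpen hx₁O
    obtain ⟨x', hx', hgen', rfl⟩ := exists_generic_over f g v hxg hgen₁
    exact ⟨x', hx', hgen', stalkFree_iso (FGA.ETiso f F g)
      (stalkFree_pullback _ _ (stalkFree_of_isFreeOfRankNear _ hFT' ⟨O, hxgO, ⟨e⟩⟩))⟩
  · intro h x hx
    by_contra hd
    have hgen := (le_pointTrdeg_iff_isGenericPtOfFibre _ d x).1 (not_lt.1 hd)
    obtain ⟨V, p, hxV, -, hfree⟩ := h (PicF.XTproj f T x)
    let g : Over.mk (V.ι ≫ T.hom) ⟶ T := Over.homMk V.ι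
    haveI : Flat g.left := inferInstanceAs (Flat V.ι)
    obtain ⟨x', hx', hgen', rfl⟩ := exists_generic_over f g ⟨_, hxV⟩ rfl hgen
    obtain ⟨x'', hx'', hgen'', hfree''⟩ := (freeCond_iff f F hF hFT p _).1 hfree ⟨_, hxV⟩
    obtain rfl := isGenericPtOfFibre_unique _ hgen' hgen'' (hx''.trans hx'.symm)
    haveI := smooth_XTproj f (Over.mk (V.ι ≫ T.hom))
    exact hx (isFlatOverAt_of_XTmap f F g x' (isFlatOverAt_of_stalkFree _ _ hfree''))

end Groth.Agent.H8Props.FunDescent
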