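import Groth.Agent.H8Props.FunDescent.Functor
import Groth.Agent.H8Props.FunDescent.GenericFree
import Groth.Agent.H29Fitt.PullbackQCoh
import Mathlib.AlgebraicGeometry.Geometrically.Irreducible
import Mathlib.AlgebraicGeometry.Fiber

/-!
# The functor `H_p` of modules free near the generic points of the fibres
-/

set_option autoImplicit false
set_option linter.style.haveILetI false

universe u

open CategoryTheory CategoryTheory.Limits AlgebraicGeometry TopologicalSpace

namespace Groth.Agent.H8Props.FunDescent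

theorem exists_isGenericPtOfFibre {X T : Scheme.{u}} (q : X ⟶ T) [GeometricallyIrreducible q] (t : T) :
    ∃ x : X, q x = t ∧ FlatFun.IsGenericPtOfFibre q x := by
  let η : q.fiber t := genericPoint _
  have hη : q (q.fiberι t η) = t := (q.range_fiberι t).subset (Set.mem_range_self η)
  refine ⟨q.fiberι t η, hη, fun x hx => ?_⟩
  obtain ⟨z, rfl⟩ : x ∈ Set.range (q.fiberι t) := by
    rw [q.range_fiberι]; exact hx.trans hη
  exact (genericPoint_specializes z).map (q.fiberι t).continuous

theorem isGenericPtOfFibre_unique {X T : Scheme.{u}} (q : X ⟶ T) {x x' : X}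
    (hx : FlatFun.IsGenericPtOfFibre q x) (hx' : FlatFun.IsGenericPtOfFibre q x') (h : q x' = q x) :
    x = x' :=
  ((hx x' h).antisymm (hx' x h.symm)).eq

variable {X S : Scheme.{u}} (f : X ⟶ S) [Smooth f] [GeometricallyIrreducible f] (F : X.Modules)

theorem smooth_XTproj (T : Over S) : Smooth (PicF.XTproj f T) :=
  inferInstanceAs (Smooth (pullback.snd f T.hom))

theorem geometricallyIrreducible_XTproj (T : Over S) : GeometricallyIrreducible (PicF.XTproj f T) :=
  inferInstanceAs (GeometricallyIrreducible (pullback.snd f T.hom))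

/-- The condition defining `H_p`. -/
abbrev FreeCond (p : ℕ) (T : Over S) : Prop :=
  FlatFun.FreeAtGenericPts (PicF.XTproj f T) (FGA.ET f F T) p

/-- The stalk form of `H_p`. -/
def FreeCondStalk (p : ℕ) (T : Over S) : Prop :=
  ∀ t : T.left, ∃ x : PicF.XT f T, PicF.XTproj f T x = t ∧
    FlatFun.IsGenericPtOfFibre (PicF.XTproj f T) x ∧ StalkFree (FGA.ET f F T) p x

variable (hF : Coh.IsQCoh F) (hFT : CohB1.IsFT F) (p : ℕ)

include hF hFT in
theorem freeCond_iff (T : Over S) : FreeCond f F p T ↔ FreeCondStalk f F p T := by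
  have hq : Coh.IsQCoh (FGA.ET f F T) := H29Fitt.isQCoh_pullback _ F hF
  constructor
  · intro h t
    obtain ⟨x, hx, hgen, hfree⟩ := h t
    exact ⟨x, hx, hgen, stalkFree_of_isFreeOfRankNear _ hq hfree⟩
  · intro h t
    obtain ⟨x, hx, hgen, hfree⟩ := h t
    haveI := smooth_XTproj f T
    exact ⟨x, hx, hgen, isFreeOfRankNear_of_stalkFree (PicF.XTproj f T) _ hq
      (H29Fitt.isFT_pullback _ F hF hFT) p h hfree⟩

theorem exists_generic_over {T' T : Over S} (g : T' ⟶ T) (t' : T'.left) {x : PicF.XT f T}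
    (hx : PicF.XTproj f T x = g.left t') (hgen : FlatFun.IsGenericPtOfFibre (PicF.XTproj f T) x) :
    ∃ x' : PicF.XT f T', PicF.XTproj f T' x' = t' ∧
      FlatFun.IsGenericPtOfFibre (PicF.XTproj f T') x' ∧ PicF.XTmap f g x' = x := by
  haveI := geometricallyIrreducible_XTproj f T'
  obtain ⟨x', hx', hgen'⟩ := exists_isGenericPtOfFibre (PicF.XTproj f T') t'
  refine ⟨x', hx', hgen', ?_⟩
  obtain ⟨w, hw₁, hw₂⟩ := Scheme.exists_preimage_of_isPullback (isPullback_XTmap f g) x t' hx
  have h1 : PicF.XTmap f g x' ⤳ x :=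
    hw₁ ▸ (hgen' w (hw₂.trans hx'.symm)).map (PicF.XTmap f g).continuous
  have h2 : x ⤳ PicF.XTmap f g x' := hgen _ (by
    rw [hx, ← hx']
    exact congrArg (fun k => k x') (isPullback_XTmap f g).w)
  exact (h1.antisymm h2).eq

include hF hFT in
theorem stable_freeCond ⦃T' T : Over S⦄ (g : T' ⟶ T) (h : FreeCond f F p T) :
    FreeCond f F p T' := by
  rw [freeCond_iff f F hF hFT] at h ⊢
  intro t'
  obtain ⟨x, hx, hgen, hfree⟩ := h (g.left t')
  obtain ⟨x', hx', hgen', rfl⟩ := exists_generic_over f g t' hx hgen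
  exact ⟨x', hx', hgen', stalkFree_iso (FGA.ETiso f F g) (stalkFree_pullback _ _ hfree)⟩

include hF hFT in
theorem freeCond_of_cover (T : Over S) {ι : Type (u + 1)} (Ti : ι → Over S) (g : ∀ i, Ti i ⟶ T)
    (hfl : ∀ i, Flat (g i).left) (hsur : ∀ x : T.left, ∃ i, x ∈ Set.range (g i).left)
    (h : ∀ i, FreeCond f F p (Ti i)) : FreeCond f F p T := by
  rw [freeCond_iff f F hF hFT]
  intro t
  haveI := geometricallyIrreducible_XTproj f T
  obtain ⟨x, hx, hgen⟩ := exists_isGenericPtOfFibre (PicF.XTproj f T) t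
  obtain ⟨i, t', ht⟩ := hsur t
  haveI := hfl i
  haveI := flat_XTmap f (g i)
  obtain ⟨x', hx', hgen', hfree⟩ := (freeCond_iff f F hF hFT p (Ti i)).1 (h i) t'
  obtain ⟨x'', hx'', hgen'', rfl⟩ := exists_generic_over f (g i) t' (hx.trans ht.symm) hgen
  obtain rfl := isGenericPtOfFibre_unique _ hgen' hgen'' (hx''.trans hx'.symm)
  exact ⟨_, hx, hgen, stalkFree_of_pullback (PicF.XTmap f (g i)) _ (H29Fitt.isQCoh_pullback _ F hF)
    (H29Fitt.isFT_pullback _ F hF hFT) (stalkFree_iso (FGA.ETiso f F (g i)).symm hfree)⟩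

end Groth.Agent.H8Props.FunDescent
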