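import Groth.Agent.H29Slice.Core
import Groth.Agent.H02CA.SmoothRegular
import Mathlib.RingTheory.LocalRing.ResidueField.Fiber
import Mathlib.RingTheory.Smooth.Flat

/-!
# Smooth algebras: a function outside the generic point of an irreducible fibre is regular
-/

set_option autoImplicit false
set_option linter.style.haveILetI false

universe u

open TensorProduct

namespace Groth.Agent.H8Props.FunDescent

variable {A B : Type u} [CommRing A] [CommRing B] [Algebra A B]

theorem exists_notMem_mul_mem_of_one_tmul_eq_zero (p : Ideal A) [p.IsPrime] (x : B)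
    (hx : (Algebra.TensorProduct.includeRight : B →ₐ[A] p.Fiber B) x = 0) :
    ∃ a ∉ p, algebraMap A B a * x ∈ p.map (algebraMap A B) := by
  letI : Algebra B (p.Fiber B) := Algebra.TensorProduct.rightAlgebra
  have h := (Ideal.Fiber.algEquivAux₁ (S := B) p).commutes x
  rw [show algebraMap B (p.Fiber B) x = 0 from hx, map_zero] at h
  have h' : algebraMap B (Localization (Algebra.algebraMapSubmonoid B p.primeCompl)) x ∈
      (p.map (algebraMap A B)).map (algebraMap B _) :=
    Ideal.Quotient.eq_zero_iff_mem.1 h.symm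
  obtain ⟨_, ⟨a, ha, rfl⟩, hm⟩ := (IsLocalization.algebraMap_mem_map_algebraMap_iff
    (Algebra.algebraMapSubmonoid B p.primeCompl) _ _ x).1 h'
  exact ⟨a, ha, hm⟩

theorem one_tmul_eq_zero_of_mem_map (p : Ideal A) [p.IsPrime] (x : B)
    (hx : x ∈ p.map (algebraMap A B)) :
    (Algebra.TensorProduct.includeRight : B →ₐ[A] p.Fiber B) x = 0 := by
  have hle : p.map (algebraMap A B) ≤
      RingHom.ker (Algebra.TensorProduct.includeRight : B →ₐ[A] p.Fiber B).toRingHom := by
    refine Ideal.map_le_iff_le_comap.2 fun a ha => ?_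
    show (Algebra.TensorProduct.includeRight : B →ₐ[A] p.Fiber B) (algebraMap A B a) = 0
    rw [AlgHom.commutes, IsScalarTower.algebraMap_apply A p.ResidueField (p.Fiber B),
      Ideal.algebraMap_residueField_eq_zero.2 ha, map_zero]
  exact hle hx

/-- A function in all primes of the fibre below `q` vanishes on the fibre near `q`. -/
theorem exists_notMem_mul_mem [Algebra.Smooth A B] (q : Ideal B) [q.IsPrime] (c : B)
    (hc : ∀ P : Ideal B, P.IsPrime → (q.comap (algebraMap A B)).map (algebraMap A B) ≤ P →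
      P ≤ q → c ∈ P) :
    ∃ t ∉ q, t * c ∈ (q.comap (algebraMap A B)).map (algebraMap A B) := by
  let p := q.comap (algebraMap A B)
  haveI : IsReduced (p.Fiber B) := H02CA.isReduced_of_smooth p.ResidueField (p.Fiber B)
  have hpq : p.map (algebraMap A B) ≤ q := Ideal.map_comap_le
  have key : ∃ s ∉ q, ∃ n : ℕ, s * c ^ n ∈ p.map (algebraMap A B) := by
    by_contra hne
    push Not at hne
    let M : Submonoid B :=
      { carrier := {z | ∃ s ∉ q, ∃ n : ℕ, z = s * c ^ n}
        one_mem' := ⟨1, Ideal.one_notMem q, 0, by simp⟩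
        mul_mem' := by
          rintro _ _ ⟨s, hs, n, rfl⟩ ⟨s', hs', n', rfl⟩
          exact ⟨s * s', fun hm => (Ideal.IsPrime.mem_or_mem ‹q.IsPrime› hm).elim hs hs', n + n',
            by ring⟩ }
    obtain ⟨P, hP, hPle, hdisj⟩ := Ideal.exists_le_prime_disjoint (p.map (algebraMap A B)) M
      (Set.disjoint_left.2 fun z hz => by
        rintro ⟨s, hs, n, rfl⟩
        exact hne s hs n hz)
    have hPq : P ≤ q := fun z hz => by
      by_contra hzq
      exact Set.disjoint_left.1 hdisj hz ⟨z, hzq, 0, by simp⟩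
    exact Set.disjoint_left.1 hdisj (hc P hP hPle hPq) ⟨1, Ideal.one_notMem q, 1, by simp⟩
  obtain ⟨s, hs, n, hn⟩ := key
  have hn' : (s * c) ^ n ∈ p.map (algebraMap A B) := by
    rcases n with _ | n
    · exact absurd (hpq (by simpa using hn)) hs
    · rw [mul_pow, pow_succ s, mul_assoc]
      exact Ideal.mul_mem_left _ _ hn
  have h0 : (Algebra.TensorProduct.includeRight : B →ₐ[A] p.Fiber B) (s * c) = 0 :=
    IsNilpotent.eq_zero ⟨n, by rw [← map_pow]; exact one_tmul_eq_zero_of_mem_map p _ hn'⟩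
  obtain ⟨a, ha, ham⟩ := exists_notMem_mul_mem_of_one_tmul_eq_zero p _ h0
  exact ⟨algebraMap A B a * s, fun hm => (Ideal.IsPrime.mem_or_mem ‹q.IsPrime› hm).elim ha hs,
    by rwa [mul_assoc]⟩

/-- Near a prime `q`, nothing is killed by a function not vanishing at the generic point `q'` of
the fibre of `q`. -/
theorem exists_notMem_mul_eq_zero [Algebra.Smooth A B] (q q' : Ideal B) [q.IsPrime] [q'.IsPrime]
    (hle : q' ≤ q) (hover : q'.comap (algebraMap A B) = q.comap (algebraMap A B))
    (hgen : ∀ P : Ideal B, P.IsPrime → P ≤ q →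
      P.comap (algebraMap A B) = q.comap (algebraMap A B) → q' ≤ P)
    (h c : B) (hh : h ∉ q') (hc : h * c = 0) : ∃ t ∉ q, t * c = 0 := by
  by_cases hhq : h ∈ q
  swap; · exact ⟨h, hhq, hc⟩
  let p := q.comap (algebraMap A B)
  have hpq : p.map (algebraMap A B) ≤ q' := Ideal.map_le_iff_le_comap.2 hover.ge
  obtain ⟨b, hb, H⟩ := H29Slice.exists_slice h ⟨q, inferInstance⟩ hhq fun c t ht htc => by
    refine exists_notMem_mul_mem (A := A) q c fun P hP hpP hPq => ?_
    have h1 : q' ≤ P := hgen P hP hPq (le_antisymm (Ideal.comap_mono hPq)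
      (fun a ha => hpP (Ideal.mem_map_of_mem _ ha)))
    rcases Ideal.IsPrime.mem_or_mem ‹q'.IsPrime› (hpq htc) with h2 | h2
    · exact absurd (hle h2) ht
    rcases Ideal.IsPrime.mem_or_mem ‹q'.IsPrime› h2 with h3 | h3
    · exact absurd h3 hh
    · exact h1 h3
  have hreg := (H (Localization.Away b)).1
  have h0 : algebraMap B (Localization.Away b) c = 0 := by
    refine mem_nonZeroDivisors_iff_right.1 hreg _ ?_
    rw [← map_mul, mul_comm, hc, map_zero]
  obtain ⟨⟨_, n, rfl⟩, hn⟩ := (IsLocalization.map_eq_zero_iff (Submonoid.powers b) _ c).1 h0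
  exact ⟨b ^ n, fun hm => hb (Ideal.IsPrime.mem_of_pow_mem ‹q.IsPrime› n hm), hn⟩

end Groth.Agent.H8Props.FunDescent
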